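import Groth.Agent.Lib.TateRes28.Lattice
import Groth.Agent.Lib.GeomFF26.SepPlace
import Mathlib.RingTheory.Valuation.Extension

/-! # The trace formula for complete fields -/

set_option autoImplicit false
set_option linter.style.haveILetI false

namespace Groth.Agent.TateRes28

open WithZero
open scoped Multiplicative

universe u v

theorem trace_resExp_eq {K L : Type u} {F E : Type v} [Field K] [Field L]
    [Field F] [Field E] [Algebra K F] [Algebra F E] [Algebra K E] [IsScalarTower K F E]
    [Algebra K L] [Algebra L E] [IsScalarTower K L E] [FiniteDimensional K L]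
    (v : Valuation F (WithZero (Multiplicative ℤ))) (w : Valuation E (WithZero (Multiplicative ℤ)))
    [v.HasExtension w]
    (φ : F →ₐ[K] LaurentSeries K) (hφ : LocRes.IsExpansionAt v φ) (hφs : Function.Surjective φ)
    (ψ : E →ₐ[L] LaurentSeries L) (hψ : LocRes.IsExpansionAt w ψ)
    (x : F) (y : E) :
    Algebra.trace K L (LocRes.resExp ψ y (algebraMap F E x)) =
      LocRes.resExp φ (Algebra.trace F E y) x := by
  classical
  have heq : v.IsEquiv (w.comap (algebraMap F E)) := Valuation.HasExtension.val_isEquiv_comap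
  obtain ⟨t, ht⟩ := hφs (HahnSeries.single 1 1)
  have hXv : Valued.v (HahnSeries.single (1 : ℤ) (1 : K) : LaurentSeries K) = exp (-(1 : ℤ)) :=
    LaurentSeries.valuation_single_zpow K 1
  have hvt : v t = exp (-(1 : ℤ)) := by rw [← hφ.1, ht, hXv]
  have hw0 : w (algebraMap F E t) ≠ 0 := by
    rw [Valuation.ne_zero_iff]
    intro h0
    rw [(algebraMap F E).injective (h0.trans (map_zero _).symm), map_zero] at hvt
    exact exp_ne_zero hvt.symm
  have hwlt : w (algebraMap F E t) < 1 :=
    (heq.lt_one_iff_lt_one (x := t)).1 (by rw [hvt, ← exp_zero, exp_lt_exp]; norm_num)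
  set e : ℕ := (-log (w (algebraMap F E t))).toNat with he
  have hlog : log (w (algebraMap F E t)) < 0 := by
    rw [← exp_log hw0, ← exp_zero, exp_lt_exp] at hwlt; exact hwlt
  have hwt : w (algebraMap F E t) = exp (-(e : ℤ)) := by
    rw [← exp_log hw0, he, Int.toNat_of_nonneg (by omega), neg_neg]
  have hepos : 0 < e := by omega
  have hwF : ∀ (f : F) (n : ℤ), v f ≤ exp n → w (algebraMap F E f) ≤ exp ((e : ℤ) * n) := by
    intro f n hf
    have h1 : w (algebraMap F E (f * t ^ n)) ≤ 1 := (heq.le_one_iff_le_one (x := f * t ^ n)).1 (by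
      rw [map_mul, map_zpow₀, hvt, ← exp_zsmul, smul_eq_mul, mul_neg, mul_one]
      refine (mul_le_mul' hf le_rfl).trans ?_
      rw [← exp_add, ← exp_zero, exp_le_exp]; omega)
    rw [map_mul, map_zpow₀, map_mul, map_zpow₀, hwt, ← exp_zsmul, smul_eq_mul, mul_neg,
      exp_neg, mul_inv_le_iff₀ exp_pos, one_mul, mul_comm] at h1
    exact h1
  obtain ⟨s, hs⟩ := hψ.2.2
  have hs0 : s ≠ 0 := fun h0 => exp_ne_zero (hs.symm.trans (by rw [h0, map_zero]))
  let m := Module.finrank K L
  let ℓ := Module.finBasis K L
  have hwL : ∀ c : L, c ≠ 0 → w (algebraMap L E c) = 1 := fun c hc => by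
    rw [← hψ.1, LocRes.map_algebraMap]
    show Valued.v (HahnSeries.single (0 : ℤ) c : LaurentSeries L) = 1
    refine le_antisymm ?_ (not_lt.1 fun hlt => hc ?_)
    · rw [← exp_zero, ← neg_zero, LaurentSeries.valuation_le_iff_coeff_lt_eq_zero]
      intro n hn
      exact HahnSeries.coeff_single_of_ne (by omega)
    · rw [FunField.lt_one_iff_le, LaurentSeries.valuation_le_iff_coeff_lt_eq_zero] at hlt
      simpa using hlt 0 (by norm_num)
  have hwL' : ∀ c : L, w (algebraMap L E c) ≤ 1 := fun c => by
    rcases eq_or_ne c 0 with rfl | hc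
    · simp
    · exact (hwL c hc).le
  have hKE : ∀ c : K, algebraMap F E (algebraMap K F c) = algebraMap L E (algebraMap K L c) := fun c => by
    rw [← IsScalarTower.algebraMap_apply, ← IsScalarTower.algebraMap_apply]
  let b : Fin e × Fin m → E := fun p => algebraMap L E (ℓ p.2) * s ^ (p.1 : ℕ)
  have hwb : ∀ p, w (b p) ≤ 1 := fun p => by
    rw [map_mul, map_pow, hs]
    exact mul_le_one' (hwL' _) (pow_le_one' (by rw [← exp_zero, exp_le_exp]; norm_num) _)
  -- one step of the approximation
  have hstep : ∀ r : E, w r ≤ 1 → ∃ c : Fin e × Fin m → K,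
      w (r - ∑ p, algebraMap F E (algebraMap K F (c p)) * b p) ≤ exp (-(e : ℤ)) := by
    intro r hr
    have : ∀ n : ℕ, n ≤ e → ∃ c : Fin e × Fin m → K,
        w (r - ∑ p, algebraMap F E (algebraMap K F (c p)) * b p) ≤ exp (-(n : ℤ)) := by
      intro n
      induction n with
      | zero => exact fun _ => ⟨0, by simpa using hr⟩
      | succ n ih =>
        intro hn
        obtain ⟨c, hc⟩ := ih (by omega)
        set r' := r - ∑ p, algebraMap F E (algebraMap K F (c p)) * b p
        set q := r' / s ^ n
        have hq : w q ≤ 1 := by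
          rw [map_div₀, map_pow, hs, ← exp_nsmul, div_le_one₀ exp_pos]
          simpa using hc
        set lam : L := (ψ q).coeff 0
        have hlam : w (q - algebraMap L E lam) ≤ exp (-(1 : ℤ)) := by
          rw [← hψ.1, LaurentSeries.valuation_le_iff_coeff_lt_eq_zero]
          intro i hi
          rw [map_sub, LocRes.map_algebraMap, HahnSeries.coeff_sub, HahnSeries.C_apply]
          rcases lt_or_eq_of_le (show i ≤ 0 by omega) with hi0 | rfl
          · rw [HahnSeries.coeff_single_of_ne (by omega),
              (LaurentSeries.valuation_le_iff_coeff_lt_eq_zero L (D := 0)).1 (by simpa [hψ.1] using hq) i hi0, sub_zero]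
          · rw [HahnSeries.coeff_single_same]
            exact sub_self _
        refine ⟨fun p => c p + if (p.1 : ℕ) = n then ℓ.repr lam p.2 else 0, ?_⟩
        have hsum : ∑ p, algebraMap F E (algebraMap K F (if (p.1 : ℕ) = n then ℓ.repr lam p.2 else 0)) * b p =
            algebraMap L E lam * s ^ n := by
          rw [Fintype.sum_prod_type, Finset.sum_eq_single (⟨n, by omega⟩ : Fin e)]
          · conv_rhs => rw [← ℓ.sum_repr lam, map_sum, Finset.sum_mul]
            refine Finset.sum_congr rfl fun j _ => ?_
            simp only [b, if_true]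
            rw [hKE, Algebra.smul_def, map_mul, mul_assoc]
          · intro i _ hi
            refine Finset.sum_eq_zero fun j _ => ?_
            rw [if_neg (fun h => hi (Fin.ext h)), map_zero, map_zero, zero_mul]
          · simp
        simp only [map_add, add_mul, Finset.sum_add_distrib]
        rw [hsum, ← sub_sub]
        change w (r' - algebraMap L E lam * s ^ n) ≤ _
        rw [show r' - algebraMap L E lam * s ^ n = (q - algebraMap L E lam) * s ^ n by
          rw [sub_mul, div_mul_cancel₀ _ (pow_ne_zero _ hs0)], map_mul, map_pow, hs, ← exp_nsmul]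
        refine (mul_le_mul' hlam le_rfl).trans ?_
        rw [← exp_add, exp_le_exp]; simp
    exact this e le_rfl
  have htE0 : algebraMap F E t ≠ 0 := fun h0 => hw0 (by rw [h0, map_zero])
  -- integral elements have integral coordinates
  have hgen : ∀ z : E, w z ≤ 1 → ∃ f : Fin e × Fin m → F, (∀ p, v (f p) ≤ 1) ∧
      z = ∑ p, algebraMap F E (f p) * b p := by
    intro z hz
    have hnext : ∀ r : {r : E // w r ≤ 1}, ∃ (c : Fin e × Fin m → K) (r' : {r : E // w r ≤ 1}),
        r.1 = (∑ p, algebraMap F E (algebraMap K F (c p)) * b p) + algebraMap F E t * r'.1 := by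
      intro r
      obtain ⟨c, hc⟩ := hstep r.1 r.2
      refine ⟨c, ⟨(r.1 - ∑ p, algebraMap F E (algebraMap K F (c p)) * b p) / algebraMap F E t, ?_⟩, ?_⟩
      · rw [map_div₀, hwt, div_le_one₀ exp_pos]; exact hc
      · rw [mul_div_cancel₀ _ htE0]; ring
    choose cst nxt hn using hnext
    let R : ℕ → {r : E // w r ≤ 1} := fun n => n.rec ⟨z, hz⟩ fun _ r => nxt r
    have hR : ∀ N, z = (∑ p, algebraMap F E (∑ n ∈ Finset.range N, algebraMap K F (cst (R n) p) * t ^ n) * b p) +
        algebraMap F E t ^ N * (R N).1 := by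
      intro N
      induction N with
      | zero => simp [R]
      | succ N ih =>
        conv_lhs => rw [ih, hn (R N)]
        simp only [Finset.sum_range_succ, map_add, add_mul, Finset.sum_add_distrib]
        rw [mul_add, Finset.mul_sum, pow_succ, mul_assoc, ← add_assoc]
        congr 1
        congr 1
        refine Finset.sum_congr rfl fun p _ => ?_
        rw [map_mul, map_pow]; ring
    choose f hf using fun p => hφs ((PowerSeries.mk fun n => cst (R n) p : PowerSeries K) : LaurentSeries K)
    refine ⟨f, fun p => ?_, ?_⟩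
    · rw [← hφ.1, hf]
      exact (LaurentSeries.val_le_one_iff_eq_coe K _).2 ⟨_, rfl⟩
    · by_contra hne
      have hne' := sub_ne_zero.2 hne
      set d := z - ∑ p, algebraMap F E (f p) * b p with hd
      have hd0 : w d ≠ 0 := (Valuation.ne_zero_iff _).2 hne'
      have hsmall : ∀ N : ℕ, w d ≤ exp (-(N : ℤ)) := by
        intro N
        have htail : ∀ p, v (f p - ∑ n ∈ Finset.range N, algebraMap K F (cst (R n) p) * t ^ n) ≤ exp (-(N : ℤ)) := by
          intro p
          rw [← hφ.1, map_sub, hf, map_sum, LaurentSeries.valuation_le_iff_coeff_lt_eq_zero]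
          intro i hi
          rw [HahnSeries.coeff_sub, HahnSeries.coeff_sum, PowerSeries.coeff_coe]
          have hterm : ∀ n : ℕ, (φ (algebraMap K F (cst (R n) p) * t ^ n)).coeff i =
              if i = (n : ℤ) then cst (R n) p else 0 := fun n => by
            rw [map_mul, map_pow, LocRes.map_algebraMap, ht, HahnSeries.single_pow, nsmul_eq_mul, mul_one, one_pow,
              HahnSeries.C_mul_eq_smul, HahnSeries.coeff_smul, HahnSeries.coeff_single]
            split <;> simp
          simp only [hterm]
          split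
          · rename_i hi0
            rw [zero_sub, neg_eq_zero]
            exact Finset.sum_eq_zero fun n _ => if_neg (by omega)
          · rename_i hi0
            rw [sub_eq_zero, PowerSeries.coeff_mk]
            refine Eq.symm ((Finset.sum_eq_single_of_mem i.natAbs (Finset.mem_range.2 (by omega))
              fun n _ hne2 => if_neg (by omega)).trans (if_pos (by omega)))
        rw [show d = algebraMap F E t ^ N * (R N).1 -
            ∑ p, algebraMap F E (f p - ∑ n ∈ Finset.range N, algebraMap K F (cst (R n) p) * t ^ n) * b p by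
          rw [hd]
          conv_lhs => rw [hR N]
          simp only [map_sub, sub_mul, Finset.sum_sub_distrib]
          ring]
        have hNe : (N : ℤ) ≤ (e : ℤ) * N := le_mul_of_one_le_left (Int.natCast_nonneg N) (by omega)
        refine (Valuation.map_sub _ _ _).trans (max_le ?_ ?_)
        · rw [map_mul, map_pow, hwt, ← exp_nsmul]
          refine (mul_le_of_le_one_right' (R N).2).trans (exp_le_exp.2 ?_)
          rw [nsmul_eq_mul, mul_neg, neg_le_neg_iff, mul_comm]
          exact hNe
        · refine Valuation.map_sum_le _ fun p _ => ?_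
          rw [map_mul]
          refine (mul_le_of_le_one_right' (hwb p)).trans ((hwF _ _ (htail p)).trans (exp_le_exp.2 ?_))
          rw [mul_neg, neg_le_neg_iff]
          exact hNe
      have := hsmall ((-log (w d)).toNat + 1)
      rw [← log_le_iff_le_exp hd0] at this
      omega
  -- integral combinations have integral coefficients
  have hinj : ∀ f : Fin e × Fin m → F, w (∑ p, algebraMap F E (f p) * b p) ≤ 1 → ∀ p, v (f p) ≤ 1 := by
    intro f hsum p₀
    by_contra hgt
    obtain ⟨pm, -, hmax⟩ := Finset.univ.exists_max_image (fun p => v (f p)) ⟨p₀, Finset.mem_univ _⟩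
    have hbig : 1 < v (f pm) := (not_le.1 hgt).trans_le (hmax p₀ (Finset.mem_univ _))
    have hf0 : v (f pm) ≠ 0 := (zero_lt_one.trans hbig).ne'
    set n := log (v (f pm))
    have hfn : v (f pm) = exp n := (exp_log hf0).symm
    have hn : 1 ≤ n := by
      rw [hfn, ← exp_zero, exp_lt_exp] at hbig; omega
    set g : Fin e × Fin m → F := fun p => f p * t ^ n
    have hg : ∀ p, v (g p) ≤ 1 := fun p => by
      rw [map_mul, map_zpow₀, hvt, ← exp_zsmul, smul_eq_mul, mul_neg, mul_one]
      refine (mul_le_mul' (hmax p (Finset.mem_univ _)) le_rfl).trans_eq ?_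
      rw [hfn, ← exp_add, add_neg_cancel, exp_zero]
    have hgm : v (g pm) = 1 := by
      rw [map_mul, map_zpow₀, hvt, ← exp_zsmul, smul_eq_mul, mul_neg, mul_one, hfn, ← exp_add, add_neg_cancel,
        exp_zero]
    have hgsum : w (∑ p, algebraMap F E (g p) * b p) ≤ exp (-(e : ℤ)) := by
      rw [show ∑ p, algebraMap F E (g p) * b p = algebraMap F E t ^ n * ∑ p, algebraMap F E (f p) * b p by
        rw [Finset.mul_sum]
        exact Finset.sum_congr rfl fun p _ => by rw [map_mul, map_zpow₀]; ring, map_mul, map_zpow₀, hwt,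
        ← exp_zsmul]
      refine (mul_le_of_le_one_right' hsum).trans (exp_le_exp.2 ?_)
      rw [smul_eq_mul, mul_neg, neg_le_neg_iff]
      exact le_mul_of_one_le_left (Int.natCast_nonneg e) hn
    let c : Fin e × Fin m → K := fun p => (φ (g p)).coeff 0
    have hgc : ∀ p, v (g p - algebraMap K F (c p)) ≤ exp (-(1 : ℤ)) := fun p => by
      rw [← hφ.1, map_sub, LocRes.map_algebraMap, LaurentSeries.valuation_le_iff_coeff_lt_eq_zero]
      intro i hi
      rw [HahnSeries.coeff_sub, HahnSeries.C_apply]
      rcases lt_or_eq_of_le (show i ≤ 0 by omega) with hi0 | rfl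
      · rw [HahnSeries.coeff_single_of_ne (by omega),
          (LaurentSeries.valuation_le_iff_coeff_lt_eq_zero K (D := 0)).1 (by simpa [hφ.1] using hg p) i hi0, sub_zero]
      · rw [HahnSeries.coeff_single_same]
        exact sub_self _
    let lam : Fin e → L := fun i => ∑ j, c (i, j) • ℓ j
    have hlsum : w (∑ i, algebraMap L E (lam i) * s ^ (i : ℕ)) ≤ exp (-(e : ℤ)) := by
      have e1 : (∑ i, algebraMap L E (lam i) * s ^ (i : ℕ)) =
          (∑ p, algebraMap F E (g p) * b p) - ∑ p, algebraMap F E (g p - algebraMap K F (c p)) * b p := by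
        rw [← Finset.sum_sub_distrib, Fintype.sum_prod_type]
        refine Finset.sum_congr rfl fun i _ => ?_
        rw [map_sum, Finset.sum_mul]
        refine Finset.sum_congr rfl fun j _ => ?_
        rw [map_sub, sub_mul, sub_sub_cancel, hKE, Algebra.smul_def, map_mul, mul_assoc]
      rw [e1]
      refine (Valuation.map_sub _ _ _).trans (max_le hgsum (Valuation.map_sum_le _ fun p _ => ?_))
      rw [map_mul]
      refine (mul_le_of_le_one_right' (hwb p)).trans ((hwF _ _ (hgc p)).trans_eq ?_)
      rw [mul_neg, mul_one]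
    have hlam0 : ∀ i, lam i = 0 := by
      by_contra hne
      push Not at hne
      obtain ⟨i₁, hi₁⟩ := hne
      obtain ⟨i₀, hi₀, hmin⟩ := (Finset.univ.filter fun i => lam i ≠ 0).exists_min_image (fun i : Fin e => (i : ℕ))
        ⟨i₁, by simp [hi₁]⟩
      simp only [Finset.mem_filter, Finset.mem_univ, true_and] at hi₀ hmin
      have hterm : w (algebraMap L E (lam i₀) * s ^ (i₀ : ℕ)) = exp (-((i₀ : ℕ) : ℤ)) := by
        rw [map_mul, hwL _ hi₀, one_mul, map_pow, hs, ← exp_nsmul, nsmul_eq_mul, mul_neg, mul_one]
      have h2 := Valuation.map_sum_eq_of_lt w (s := Finset.univ) (j := i₀)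
        (f := fun i => algebraMap L E (lam i) * s ^ (i : ℕ)) (Finset.mem_univ _) fun i hi => ?_
      · rw [h2, hterm, exp_le_exp] at hlsum
        have := i₀.2
        omega
      · rw [Finset.mem_sdiff, Finset.mem_singleton] at hi
        rw [hterm]
        rcases eq_or_ne (lam i) 0 with h0 | h0
        · rw [h0, map_zero, zero_mul, map_zero]; exact exp_pos
        · rw [map_mul, hwL _ h0, one_mul, map_pow, hs, ← exp_nsmul, nsmul_eq_mul, mul_neg, mul_one, exp_lt_exp]
          have := hmin i h0
          have h3 : (i : ℕ) ≠ i₀ := fun h4 => hi.2 (Fin.ext h4)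
          omega
    have hc0 : c pm = 0 :=
      Fintype.linearIndependent_iff.1 ℓ.linearIndependent (fun j => c (pm.1, j)) (hlam0 pm.1) pm.2
    have h5 := hgc pm
    rw [hc0, map_zero, sub_zero, hgm, ← exp_zero, exp_le_exp] at h5
    omega
  have hli : LinearIndependent F b := Fintype.linearIndependent_iff.2 fun f hf p => by
    by_contra hne
    have h0 : v (f p) ≠ 0 := (Valuation.ne_zero_iff _).2 hne
    set n := log (v (f p)) - 1
    have h1 := hinj (fun q => f q * t ^ n) (by
      rw [show ∑ q, algebraMap F E (f q * t ^ n) * b q = algebraMap F E t ^ n * ∑ q, f q • b q by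
        rw [Finset.mul_sum]
        exact Finset.sum_congr rfl fun q _ => by rw [map_mul, map_zpow₀, Algebra.smul_def]; ring, hf, mul_zero,
        map_zero]
      exact zero_le) p
    rw [map_mul, map_zpow₀, hvt, ← exp_zsmul, smul_eq_mul, mul_neg, mul_one, ← exp_log h0, ← exp_add, ← exp_zero,
      exp_le_exp] at h1
    omega
  have hspan : ⊤ ≤ Submodule.span F (Set.range b) := by
    intro z _
    obtain ⟨N, hN⟩ : ∃ N : ℕ, w (algebraMap F E t ^ N * z) ≤ 1 := by
      refine ⟨(log (w z)).toNat, ?_⟩
      rcases eq_or_ne (w z) 0 with h0 | h0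
      · rw [map_mul, h0, mul_zero]; exact zero_le
      · rw [map_mul, map_pow, hwt, ← exp_nsmul, nsmul_eq_mul, ← exp_log h0, ← exp_add, ← exp_zero, exp_le_exp,
          log_exp, mul_neg, neg_add_nonpos_iff]
        calc log (w z) ≤ ((log (w z)).toNat : ℤ) := Int.self_le_toNat _
          _ ≤ ((log (w z)).toNat : ℤ) * e := le_mul_of_one_le_right (Int.natCast_nonneg _) (by omega)
    obtain ⟨f, -, hf⟩ := hgen _ hN
    have : z = ∑ p, (f p / t ^ N) • b p := by
      rw [← mul_div_cancel_left₀ z (pow_ne_zero N htE0), hf, Finset.sum_div]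
      refine Finset.sum_congr rfl fun p _ => ?_
      rw [Algebra.smul_def, map_div₀, map_pow]
      field_simp
    rw [this]
    exact Submodule.sum_mem _ fun p _ => Submodule.smul_mem _ _ (Submodule.subset_span ⟨p, rfl⟩)
  let B : Module.Basis (Fin e × Fin m) F E := Module.Basis.mk hli hspan
  -- the expansion over `K`
  let ψK : E →ₐ[K] LaurentSeries L :=
    { ψ.toRingHom with
      commutes' := fun c => by
        show ψ (algebraMap K E c) = _
        rw [IsScalarTower.algebraMap_apply K L E, LocRes.map_algebraMap, Algebra.algebraMap_self, RingHom.id_apply,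
          HahnSeries.algebraMap_apply', PowerSeries.algebraMap_apply, HahnSeries.ofPowerSeries_C] }
  have hres : LocRes.locRes φ (Algebra.trace F E y) x = ∑ _i : Unit, LocRes.locRes ψK y (algebraMap F E x) := by
    refine trace_formula_of_lattice (k := K) φ (fun h M => GeomFF26.exists_approx hφ h (M : ℤ))
      (fun _ : Unit => ψK) (fun h M => ?_) B (fun z => ?_) y x
    · obtain ⟨z, hz⟩ := GeomFF26.exists_approx hψ (h ()) (M : ℤ)
      exact ⟨z, fun _ => hz⟩
    · have hz : z = ∑ p, algebraMap F E (B.repr z p) * b p := by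
        conv_lhs => rw [← B.sum_repr z]
        exact Finset.sum_congr rfl fun p _ => by rw [Algebra.smul_def, Module.Basis.mk_apply]
      refine ⟨fun h p => ?_, fun h _ => ?_⟩
      · rw [hφ.1]
        refine hinj _ ?_ p
        rw [← hz, ← hψ.1]
        exact h ()
      · show Valued.v (ψ z) ≤ 1
        rw [hψ.1, hz]
        refine Valuation.map_sum_le _ fun p _ => ?_
        rw [map_mul]
        refine mul_le_one' ((hwF _ 0 ?_).trans ?_) (hwb p)
        · rw [exp_zero, ← hφ.1]; exact h p
        · rw [mul_zero, exp_zero]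
  rw [Fintype.sum_unique] at hres
  rw [LocRes.locRes, Algebra.trace_self_apply] at hres
  exact hres.symm

end Groth.Agent.TateRes28
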