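import Mathlib.LinearAlgebra.Trace
import Mathlib.LinearAlgebra.Projection
import Mathlib.RingTheory.Nilpotent.Lemmas

/-! # Traces of finite potent maps and Tate's abstract residue -/

set_option autoImplicit false
set_option linter.style.haveILetI false

namespace Groth.Agent.TateRes28

variable {k V W : Type*} [Field k] [AddCommGroup V] [Module k V] [AddCommGroup W] [Module k W]

/-- A finite-dimensional invariant subspace containing the image of some power. -/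
structure Good (x : V →ₗ[k] V) (U : Submodule k V) : Prop where
  fin : FiniteDimensional k U
  maps : ∀ u ∈ U, x u ∈ U
  pow : ∃ n : ℕ, ∀ v, (x ^ n) v ∈ U

theorem Good.pow_mem {x : V →ₗ[k] V} {U : Submodule k V} (h : Good x U) (n : ℕ) {u : V} (hu : u ∈ U) :
    (x ^ n) u ∈ U := by
  induction n with
  | zero => simpa using hu
  | succ n ih => rw [pow_succ', Module.End.mul_apply]; exact h.maps _ ih

open scoped Classical in
/-- The trace of a finite potent map. -/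
noncomputable def tr (x : V →ₗ[k] V) : k :=
  if h : ∃ U, Good x U then LinearMap.trace k h.choose (x.restrict h.choose_spec.maps) else 0

theorem trace_restrict_eq_of_le {x : V →ₗ[k] V} {U U' : Submodule k V} (hle : U ≤ U') (hU : Good x U)
    (hU' : Good x U') :
    LinearMap.trace k U (x.restrict hU.maps) = LinearMap.trace k U' (x.restrict hU'.maps) := by
  haveI := hU.fin
  haveI := hU'.fin
  set i := Submodule.inclusion hle
  obtain ⟨p, hp⟩ := i.exists_leftInverse_of_injective (LinearMap.ker_eq_bot.2 (Submodule.inclusion_injective hle))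
  set y := x.restrict hU'.maps with hy
  set q : U' →ₗ[k] U' := LinearMap.id - i ∘ₗ p with hq
  have hqi : q ∘ₗ i = 0 := by
    rw [hq, LinearMap.sub_comp, LinearMap.id_comp, LinearMap.comp_assoc, hp, LinearMap.comp_id, sub_self]
  have hxi : y ∘ₗ i = i ∘ₗ x.restrict hU.maps := LinearMap.ext fun u => Subtype.ext rfl
  have h1 : LinearMap.trace k U' (y ∘ₗ i ∘ₗ p) = LinearMap.trace k U (x.restrict hU.maps) := by
    rw [← LinearMap.comp_assoc, hxi, LinearMap.comp_assoc, LinearMap.trace_comp_comm',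
      LinearMap.comp_assoc, hp, LinearMap.comp_id]
  have hqq : q ∘ₗ q = q := by
    rw [show q ∘ₗ q = q ∘ₗ LinearMap.id - (q ∘ₗ i) ∘ₗ p by
      conv_lhs => arg 2; rw [hq]
      rw [LinearMap.comp_sub, LinearMap.comp_assoc], hqi, LinearMap.zero_comp, sub_zero, LinearMap.comp_id]
  have hqy : q ∘ₗ y ∘ₗ q = q ∘ₗ y := by
    conv_lhs => arg 2; arg 2; rw [hq]
    rw [LinearMap.comp_sub, LinearMap.comp_id, LinearMap.comp_sub, sub_eq_self,
      show y ∘ₗ i ∘ₗ p = (y ∘ₗ i) ∘ₗ p from rfl, hxi]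
    show (q ∘ₗ i) ∘ₗ (x.restrict hU.maps ∘ₗ p) = 0
    rw [hqi, LinearMap.zero_comp]
  have hqyq : ∀ (n : ℕ), (q ∘ₗ y) ^ n * q = q * y ^ n * q := by
    intro n
    induction n with
    | zero => rw [pow_zero, pow_zero, one_mul, mul_one]; exact hqq.symm
    | succ n ih =>
      rw [pow_succ' (q ∘ₗ y) n, mul_assoc, ih, ← mul_assoc, ← mul_assoc, pow_succ' y n, ← mul_assoc q y]
      congr 2
  have hnil : IsNilpotent (q ∘ₗ y) := by
    obtain ⟨n, hn⟩ := hU.pow
    refine ⟨n + 1, ?_⟩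
    have hcoe : ∀ (m : ℕ) (v : U'), (((y ^ m) v : U') : V) = (x ^ m) v := by
      intro m
      induction m with
      | zero => simp
      | succ m ih => intro v; rw [pow_succ', pow_succ', Module.End.mul_apply, Module.End.mul_apply, ← ih]; rfl
    have hz : q * y ^ n = 0 := LinearMap.ext fun v => by
      obtain ⟨u, hu⟩ : ∃ u : U, i u = (y ^ n) v := ⟨⟨_, hn v⟩, Subtype.ext (hcoe n v).symm⟩
      rw [Module.End.mul_apply, ← hu]
      exact LinearMap.congr_fun hqi u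
    calc (q ∘ₗ y) ^ (n + 1) = (q ∘ₗ y) ^ n * q * y := by rw [pow_succ, mul_assoc]; rfl
      _ = q * y ^ n * q * y := by rw [hqyq]
      _ = 0 := by rw [hz, zero_mul, zero_mul]
  have h2 : LinearMap.trace k U' (y ∘ₗ q) = 0 := by
    rw [LinearMap.trace_comp_comm']
    exact (LinearMap.isNilpotent_trace_of_isNilpotent hnil).eq_zero
  have h3 : y = y ∘ₗ i ∘ₗ p + y ∘ₗ q := by
    rw [← LinearMap.comp_add, hq, add_sub_cancel, LinearMap.comp_id]
  rw [← h1]
  conv_rhs => rw [h3, map_add, h2, add_zero]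

theorem Good.sup {x : V →ₗ[k] V} {U U' : Submodule k V} (h : Good x U) (h' : Good x U') : Good x (U ⊔ U') := by
  haveI := h.fin
  haveI := h'.fin
  refine ⟨inferInstance, fun u hu => ?_, h.pow.imp fun n hn v => Submodule.mem_sup_left (hn v)⟩
  obtain ⟨a, ha, b, hb, rfl⟩ := Submodule.mem_sup.1 hu
  rw [map_add]
  exact Submodule.add_mem_sup (h.maps a ha) (h'.maps b hb)

theorem tr_eq {x : V →ₗ[k] V} {U : Submodule k V} (hU : Good x U) :
    tr x = LinearMap.trace k U (x.restrict hU.maps) := by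
  rw [tr, dif_pos ⟨U, hU⟩]
  set h : ∃ U, Good x U := ⟨U, hU⟩
  rw [trace_restrict_eq_of_le le_sup_left h.choose_spec (h.choose_spec.sup hU),
    trace_restrict_eq_of_le le_sup_right hU (h.choose_spec.sup hU)]

theorem tr_eq_zero_of_pow {x : V →ₗ[k] V} (n : ℕ) (hn : x ^ n = 0) : tr x = 0 := by
  have hg : Good x ⊥ := ⟨inferInstance, fun u hu => by simp [Submodule.mem_bot _ |>.1 hu], n, fun v => by simp [hn]⟩
  rw [tr_eq hg, Subsingleton.elim (x.restrict hg.maps) 0, map_zero]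

theorem tr_zero : tr (0 : V →ₗ[k] V) = 0 := tr_eq_zero_of_pow 1 (pow_one _)

theorem Good.map_comp {a : V →ₗ[k] W} {b : W →ₗ[k] V} {U : Submodule k V} (h : Good (b ∘ₗ a) U) :
    Good (a ∘ₗ b) (U.map a) := by
  haveI := h.fin
  obtain ⟨n, hn⟩ := h.pow
  refine ⟨inferInstance, ?_, n + 1, fun w => ?_⟩
  · rintro _ ⟨u, hu, rfl⟩
    exact ⟨_, h.maps u hu, rfl⟩
  · refine ⟨_, hn (b w), ?_⟩
    have key : ∀ (m : ℕ) (w : W), a (((b ∘ₗ a) ^ m) (b w)) = ((a ∘ₗ b) ^ (m + 1)) w := by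
      intro m
      induction m with
      | zero => intro w; simp
      | succ m ih =>
        intro w
        rw [pow_succ' (b ∘ₗ a), Module.End.mul_apply, LinearMap.comp_apply, ih w, pow_succ' (a ∘ₗ b) (m + 1),
          Module.End.mul_apply, LinearMap.comp_apply]
    exact key n w

theorem tr_comp_comm (a : V →ₗ[k] W) (b : W →ₗ[k] V) {U : Submodule k V} (h : Good (b ∘ₗ a) U) :
    tr (b ∘ₗ a) = tr (a ∘ₗ b) := by
  haveI := h.fin
  have h' := h.map_comp
  haveI := h'.fin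
  rw [tr_eq h, tr_eq h']
  let a' : U →ₗ[k] U.map a := a.restrict fun u hu => ⟨u, hu, rfl⟩
  let b' : U.map a →ₗ[k] U := b.restrict (by rintro _ ⟨u, hu, rfl⟩; exact h.maps u hu)
  have e1 : (b ∘ₗ a).restrict h.maps = b' ∘ₗ a' := LinearMap.ext fun u => Subtype.ext rfl
  have e2 : (a ∘ₗ b).restrict h'.maps = a' ∘ₗ b' := LinearMap.ext fun u => Subtype.ext rfl
  rw [e1, e2, LinearMap.trace_comp_comm']

variable (A : Submodule k V)

/-- Maps sending `A` into `A` up to a finite-dimensional space. -/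
def Sta (g : V →ₗ[k] V) : Prop := ∃ G : Submodule k V, FiniteDimensional k G ∧ A.map g ≤ A ⊔ G

/-- Maps with image almost in `A` and killing `A` up to a finite-dimensional space. -/
def Sml (x : V →ₗ[k] V) : Prop :=
  ∃ G : Submodule k V, FiniteDimensional k G ∧ LinearMap.range x ≤ A ⊔ G ∧ A.map x ≤ G

/-- Two subspaces agree up to finite dimension. -/
def Alm (A' : Submodule k V) : Prop :=
  ∃ G : Submodule k V, FiniteDimensional k G ∧ A ≤ A' ⊔ G ∧ A' ≤ A ⊔ G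

variable {A}

theorem Sml.mk' {x : V →ₗ[k] V} (G H : Submodule k V) [FiniteDimensional k G] [FiniteDimensional k H]
    (h1 : ∀ v, x v ∈ A ⊔ G) (h2 : ∀ a ∈ A, x a ∈ H) : Sml A x := by
  refine ⟨G ⊔ H, inferInstance, ?_, ?_⟩
  · rintro _ ⟨v, rfl⟩
    exact sup_le_sup_left le_sup_left A (h1 v)
  · rintro _ ⟨a, ha, rfl⟩
    exact Submodule.mem_sup_right (h2 a ha)

theorem Sml.add {x y : V →ₗ[k] V} (hx : Sml A x) (hy : Sml A y) : Sml A (x + y) := by
  obtain ⟨G, hG, hxr, hxA⟩ := hx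
  obtain ⟨H, hH, hyr, hyA⟩ := hy
  refine Sml.mk' (G ⊔ H) (G ⊔ H) (fun v => ?_) fun a ha => ?_
  · exact add_mem (sup_le_sup_left le_sup_left A (hxr ⟨v, rfl⟩)) (sup_le_sup_left le_sup_right A (hyr ⟨v, rfl⟩))
  · exact add_mem (Submodule.mem_sup_left (hxA ⟨a, ha, rfl⟩)) (Submodule.mem_sup_right (hyA ⟨a, ha, rfl⟩))

theorem Sml.neg {x : V →ₗ[k] V} (hx : Sml A x) : Sml A (-x) := by
  obtain ⟨G, hG, hxr, hxA⟩ := hx
  exact Sml.mk' G G (fun v => neg_mem (hxr ⟨v, rfl⟩)) fun a ha => neg_mem (hxA ⟨a, ha, rfl⟩)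

theorem Sml.sub {x y : V →ₗ[k] V} (hx : Sml A x) (hy : Sml A y) : Sml A (x - y) := by
  rw [sub_eq_add_neg]; exact hx.add hy.neg

theorem Sml.smul (c : k) {x : V →ₗ[k] V} (hx : Sml A x) : Sml A (c • x) := by
  obtain ⟨G, hG, hxr, hxA⟩ := hx
  exact Sml.mk' G G (fun v => Submodule.smul_mem _ c (hxr ⟨v, rfl⟩))
    fun a ha => Submodule.smul_mem _ c (hxA ⟨a, ha, rfl⟩)

theorem Sml.zero : Sml A (0 : V →ₗ[k] V) := Sml.mk' ⊥ ⊥ (fun v => by simp) fun a _ => by simp

theorem Sml.sum {ι : Type*} (s : Finset ι) {x : ι → V →ₗ[k] V} (hx : ∀ i ∈ s, Sml A (x i)) :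
    Sml A (∑ i ∈ s, x i) := by
  classical
  induction s using Finset.induction_on with
  | empty => exact Sml.zero
  | insert a s has ih =>
    rw [Finset.sum_insert has]
    exact (hx a (Finset.mem_insert_self a s)).add (ih fun i hi => hx i (Finset.mem_insert_of_mem hi))

theorem Sta.mk' {g : V →ₗ[k] V} (h : ∀ a ∈ A, g a ∈ A) : Sta A g :=
  ⟨⊥, inferInstance, by rintro _ ⟨a, ha, rfl⟩; exact Submodule.mem_sup_left (h a ha)⟩

theorem Sml.comp_sta {x g : V →ₗ[k] V} (hx : Sml A x) (hg : Sta A g) : Sml A (x ∘ₗ g) := by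
  obtain ⟨G, hG, hxr, hxA⟩ := hx
  obtain ⟨H, hH, hgA⟩ := hg
  refine Sml.mk' G (G ⊔ H.map x) (fun v => hxr ⟨g v, rfl⟩) fun a ha => ?_
  obtain ⟨a', ha', h, hh, he⟩ := Submodule.mem_sup.1 (hgA ⟨a, ha, rfl⟩)
  rw [LinearMap.comp_apply, ← he, map_add]
  exact Submodule.add_mem_sup (hxA ⟨a', ha', rfl⟩) ⟨h, hh, rfl⟩

theorem Sml.sta_comp {x g : V →ₗ[k] V} (hx : Sml A x) (hg : Sta A g) : Sml A (g ∘ₗ x) := by
  obtain ⟨G, hG, hxr, hxA⟩ := hx
  obtain ⟨H, hH, hgA⟩ := hg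
  refine Sml.mk' (H ⊔ G.map g) (G.map g) (fun v => ?_) fun a ha => ⟨x a, hxA ⟨a, ha, rfl⟩, rfl⟩
  obtain ⟨a', ha', h, hh, he⟩ := Submodule.mem_sup.1 (hxr ⟨v, rfl⟩)
  rw [LinearMap.comp_apply, ← he, map_add]
  exact add_mem (sup_le_sup_left le_sup_left A (hgA ⟨a', ha', rfl⟩))
    (Submodule.mem_sup_right (Submodule.mem_sup_right ⟨h, hh, rfl⟩))

theorem Sml.exists_fin {x y : V →ₗ[k] V} (hx : Sml A x) (hy : Sml A y) :
    ∃ U : Submodule k V, FiniteDimensional k U ∧ ∀ v, x (y v) ∈ U := by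
  obtain ⟨G, hG, -, hxA⟩ := hx
  obtain ⟨H, hH, hyr, -⟩ := hy
  refine ⟨G ⊔ H.map x, inferInstance, fun v => ?_⟩
  obtain ⟨a', ha', h, hh, he⟩ := Submodule.mem_sup.1 (hyr ⟨v, rfl⟩)
  rw [← he, map_add]
  exact Submodule.add_mem_sup (hxA ⟨a', ha', rfl⟩) ⟨h, hh, rfl⟩

theorem exists_good_two {x y : V →ₗ[k] V} (hx : Sml A x) (hy : Sml A y) :
    ∃ U : Submodule k V, Good x U ∧ Good y U ∧ Good (x + y) U := by
  obtain ⟨U1, h1, hxx⟩ := hx.exists_fin hx
  obtain ⟨U2, h2, hxy⟩ := hx.exists_fin hy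
  obtain ⟨U3, h3, hyx⟩ := hy.exists_fin hx
  obtain ⟨U4, h4, hyy⟩ := hy.exists_fin hy
  set U0 := U1 ⊔ U2 ⊔ U3 ⊔ U4 with hU0
  have hx1 : ∀ v, x (x v) ∈ U0 := fun v => Submodule.mem_sup_left (Submodule.mem_sup_left (Submodule.mem_sup_left (hxx v)))
  have hx2 : ∀ v, x (y v) ∈ U0 := fun v => Submodule.mem_sup_left (Submodule.mem_sup_left (Submodule.mem_sup_right (hxy v)))
  have hy1 : ∀ v, y (x v) ∈ U0 := fun v => Submodule.mem_sup_left (Submodule.mem_sup_right (hyx v))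
  have hy2 : ∀ v, y (y v) ∈ U0 := fun v => Submodule.mem_sup_right (hyy v)
  set U := U0 ⊔ U0.map x ⊔ U0.map y with hU
  have hle : U0 ≤ U := le_sup_left.trans le_sup_left
  have hmx : ∀ u ∈ U, x u ∈ U := by
    intro u hu
    obtain ⟨w, hw, c, ⟨c', hc', rfl⟩, rfl⟩ := Submodule.mem_sup.1 hu
    obtain ⟨a, ha, b, ⟨b', hb', rfl⟩, rfl⟩ := Submodule.mem_sup.1 hw
    rw [map_add, map_add]
    exact add_mem (add_mem (Submodule.mem_sup_left (Submodule.mem_sup_right ⟨a, ha, rfl⟩)) (hle (hx1 b')))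
      (hle (hx2 c'))
  have hmy : ∀ u ∈ U, y u ∈ U := by
    intro u hu
    obtain ⟨w, hw, c, ⟨c', hc', rfl⟩, rfl⟩ := Submodule.mem_sup.1 hu
    obtain ⟨a, ha, b, ⟨b', hb', rfl⟩, rfl⟩ := Submodule.mem_sup.1 hw
    rw [map_add, map_add]
    exact add_mem (add_mem (Submodule.mem_sup_right ⟨a, ha, rfl⟩) (hle (hy1 b'))) (hle (hy2 c'))
  refine ⟨U, ⟨inferInstance, hmx, 2, fun v => ?_⟩, ⟨inferInstance, hmy, 2, fun v => ?_⟩,
    ⟨inferInstance, fun u hu => add_mem (hmx u hu) (hmy u hu), 2, fun v => ?_⟩⟩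
  · rw [pow_two, Module.End.mul_apply]; exact hle (hx1 v)
  · rw [pow_two, Module.End.mul_apply]; exact hle (hy2 v)
  · rw [pow_two, Module.End.mul_apply, LinearMap.add_apply, LinearMap.add_apply, map_add, map_add]
    exact hle (add_mem (add_mem (hx1 v) (hx2 v)) (add_mem (hy1 v) (hy2 v)))

theorem Sml.exists_good {x : V →ₗ[k] V} (hx : Sml A x) : ∃ U, Good x U :=
  let ⟨U, h, _⟩ := exists_good_two hx hx
  ⟨U, h⟩

theorem Sml.tr_add {x y : V →ₗ[k] V} (hx : Sml A x) (hy : Sml A y) : tr (x + y) = tr x + tr y := by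
  obtain ⟨U, h1, h2, h3⟩ := exists_good_two hx hy
  rw [tr_eq h1, tr_eq h2, tr_eq h3, ← map_add]
  exact congrArg _ (LinearMap.ext fun u => Subtype.ext rfl)

theorem Sml.tr_smul (c : k) {x : V →ₗ[k] V} (hx : Sml A x) : tr (c • x) = c * tr x := by
  obtain ⟨U, hU⟩ := hx.exists_good
  obtain ⟨n, hn⟩ := hU.pow
  have hg : Good (c • x) U := by
    refine ⟨hU.fin, fun u hu => U.smul_mem c (hU.maps u hu), n, fun v => ?_⟩
    rw [smul_pow]
    exact U.smul_mem _ (hn v)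
  rw [tr_eq hg, tr_eq hU, ← smul_eq_mul, ← map_smul]
  exact congrArg _ (LinearMap.ext fun u => Subtype.ext rfl)

theorem Sml.tr_neg {x : V →ₗ[k] V} (hx : Sml A x) : tr (-x) = -tr x := by
  rw [← neg_one_smul k x, hx.tr_smul, neg_one_mul]

theorem Sml.tr_sub {x y : V →ₗ[k] V} (hx : Sml A x) (hy : Sml A y) : tr (x - y) = tr x - tr y := by
  rw [sub_eq_add_neg, hx.tr_add hy.neg, hy.tr_neg, ← sub_eq_add_neg]

theorem Sml.tr_sum {ι : Type*} (s : Finset ι) {x : ι → V →ₗ[k] V} (hx : ∀ i ∈ s, Sml A (x i)) :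
    tr (∑ i ∈ s, x i) = ∑ i ∈ s, tr (x i) := by
  classical
  induction s using Finset.induction_on with
  | empty => exact tr_zero
  | insert a s has ih =>
    have hs : ∀ i ∈ s, Sml A (x i) := fun i hi => hx i (Finset.mem_insert_of_mem hi)
    rw [Finset.sum_insert has, Finset.sum_insert has, (hx a (Finset.mem_insert_self a s)).tr_add (Sml.sum s hs),
      ih hs]

theorem Sml.tr_comm {e g : V →ₗ[k] V} (he : Sml A e) (hg : Sta A g) : tr (e ∘ₗ g) = tr (g ∘ₗ e) := by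
  obtain ⟨U, hU⟩ := (he.comp_sta hg).exists_good
  exact tr_comp_comm g e hU

/-! ## the residue -/

/-- Tate's commutator for a projection `π` on `A`. -/
def comm (π f g : V →ₗ[k] V) : V →ₗ[k] V := π ∘ₗ f ∘ₗ g - g ∘ₗ π ∘ₗ f

theorem comm_apply (π f g : V →ₗ[k] V) (v : V) : comm π f g v = π (f (g v)) - g (π (f v)) := rfl

theorem sml_comm {π f g : V →ₗ[k] V} (hπ : LinearMap.IsProj A π) (hf : Sta A f) (hg : Sta A g)
    (hfg : f ∘ₗ g = g ∘ₗ f) : Sml A (comm π f g) := by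
  obtain ⟨F, hF, hfA⟩ := hf
  obtain ⟨G, hG, hgA⟩ := hg
  have hfgA : ∀ a ∈ A, f (g a) ∈ A ⊔ (F ⊔ G.map f) := by
    intro a ha
    obtain ⟨a', ha', h, hh, he⟩ := Submodule.mem_sup.1 (hgA ⟨a, ha, rfl⟩)
    rw [← he, map_add]
    exact add_mem (sup_le_sup_left le_sup_left A (hfA ⟨a', ha', rfl⟩))
      (Submodule.mem_sup_right (Submodule.mem_sup_right ⟨h, hh, rfl⟩))
  set H := F ⊔ G.map f
  refine Sml.mk' G ((H ⊔ H.map π) ⊔ (F.map g ⊔ F.map (g ∘ₗ π))) (fun v => ?_) fun a ha => ?_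
  · rw [comm_apply]
    exact sub_mem (Submodule.mem_sup_left (hπ.map_mem _)) (hgA ⟨_, hπ.map_mem _, rfl⟩)
  · rw [comm_apply]
    obtain ⟨a', ha', h, hh, he⟩ := Submodule.mem_sup.1 (hfgA a ha)
    obtain ⟨a'', ha'', h', hh', he'⟩ := Submodule.mem_sup.1 (hfA ⟨a, ha, rfl⟩)
    have e1 : π (f (g a)) = f (g a) - h + π h := by
      rw [← he, map_add, hπ.map_id _ ha', add_sub_cancel_right]
    have e2 : g (π (f a)) = f (g a) - g h' + g (π h') := by
      rw [show f (g a) = g (f a) from LinearMap.congr_fun hfg a, ← he', map_add π, hπ.map_id _ ha'', map_add,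
        map_add, add_sub_cancel_right]
    rw [e1, e2, show f (g a) - h + π h - (f (g a) - g h' + g (π h')) = (π h - h) + (g h' - g (π h')) by abel]
    exact Submodule.add_mem_sup
      (sub_mem (Submodule.mem_sup_right ⟨h, hh, rfl⟩) (Submodule.mem_sup_left hh))
      (sub_mem (Submodule.mem_sup_left ⟨h', hh', rfl⟩) (Submodule.mem_sup_right ⟨h', hh', rfl⟩))

theorem Sml.of_alm {A' : Submodule k V} (h : Alm A A') {x : V →ₗ[k] V} (hx : Sml A' x) : Sml A x := by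
  obtain ⟨G, hG, h1, h2⟩ := h
  obtain ⟨H, hH, hr, hA⟩ := hx
  refine Sml.mk' (G ⊔ H) (H ⊔ G.map x) (fun v => ?_) fun a ha => ?_
  · exact (sup_le (h2.trans (sup_le_sup_left le_sup_left A)) (le_sup_right.trans le_sup_right)) (hr ⟨v, rfl⟩)
  · obtain ⟨a', ha', g, hg, rfl⟩ := Submodule.mem_sup.1 (h1 ha)
    rw [map_add]
    exact Submodule.add_mem_sup (hA ⟨a', ha', rfl⟩) ⟨g, hg, rfl⟩

theorem Sta.of_alm {A' : Submodule k V} (h : Alm A A') {x : V →ₗ[k] V} (hx : Sta A x) : Sta A' x := by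
  obtain ⟨G, hG, h1, h2⟩ := h
  obtain ⟨H, hH, hA⟩ := hx
  refine ⟨G ⊔ H ⊔ G.map x, inferInstance, ?_⟩
  rintro _ ⟨a, ha, rfl⟩
  obtain ⟨a', ha', g, hg, rfl⟩ := Submodule.mem_sup.1 (h2 ha)
  rw [map_add]
  refine add_mem ((sup_le (h1.trans (sup_le_sup_left (le_sup_left.trans le_sup_left) A')) ?_) (hA ⟨a', ha', rfl⟩))
    (Submodule.mem_sup_right (Submodule.mem_sup_right ⟨g, hg, rfl⟩))
  exact (le_sup_right.trans le_sup_left).trans le_sup_right

theorem Alm.refl : Alm A A := ⟨⊥, inferInstance, le_sup_left, le_sup_left⟩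

/-- Tate's residue does not depend on the projection, nor on `A` up to finite dimension. -/
theorem tr_comm_eq {π π' f g : V →ₗ[k] V} {A' : Submodule k V} (hπ : LinearMap.IsProj A π)
    (hπ' : LinearMap.IsProj A' π') (h : Alm A A') (hf : Sta A f) (hg : Sta A g) (hfg : f ∘ₗ g = g ∘ₗ f) :
    tr (comm π f g) = tr (comm π' f g) := by
  have hd : Sml A (π - π') := by
    obtain ⟨G, hG, h1, h2⟩ := h
    refine Sml.mk' G (G ⊔ G.map π') (fun v => ?_) fun a ha => ?_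
    · exact sub_mem (Submodule.mem_sup_left (hπ.map_mem _)) (h2 (hπ'.map_mem _))
    · obtain ⟨a', ha', g', hg', he⟩ := Submodule.mem_sup.1 (h1 ha)
      rw [LinearMap.sub_apply, hπ.map_id _ ha, ← he, map_add, hπ'.map_id _ ha', add_sub_add_left_eq_sub]
      exact sub_mem (Submodule.mem_sup_left hg') (Submodule.mem_sup_right ⟨g', hg', rfl⟩)
  have hC' : Sml A (comm π' f g) := (sml_comm hπ' (hf.of_alm h) (hg.of_alm h) hfg).of_alm h
  have hC := sml_comm hπ hf hg hfg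
  have he : comm π f g = comm π' f g + (((π - π') ∘ₗ f) ∘ₗ g - g ∘ₗ ((π - π') ∘ₗ f)) := by
    refine LinearMap.ext fun v => ?_
    simp only [comm_apply, LinearMap.add_apply, LinearMap.sub_apply, LinearMap.comp_apply, map_sub]
    abel
  have h1 := (hd.comp_sta hf).comp_sta hg
  have h2 := (hd.comp_sta hf).sta_comp hg
  rw [he, hC'.tr_add (h1.sub h2), h1.tr_sub h2, (hd.comp_sta hf).tr_comm hg, sub_self, add_zero]

/-- The residue vanishes when an invariant subspace is nearly complementary to `A`. -/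
theorem tr_comm_eq_zero {π f g : V →ₗ[k] V} (hπ : LinearMap.IsProj A π) (hf : Sta A f) (hg : Sta A g)
    (hfg : f ∘ₗ g = g ∘ₗ f) (W₀ : Submodule k V) (hWf : ∀ w ∈ W₀, f w ∈ W₀) (hWg : ∀ w ∈ W₀, g w ∈ W₀)
    (h1 : FiniteDimensional k (A ⊓ W₀ : Submodule k V)) (h2 : FiniteDimensional k (V ⧸ (A ⊔ W₀))) :
    tr (comm π f g) = 0 := by
  obtain ⟨A1, hA1⟩ := Submodule.exists_isCompl ((A ⊓ W₀).comap A.subtype)
  obtain ⟨W2, hW2⟩ := Submodule.exists_isCompl (A ⊔ W₀)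
  haveI : FiniteDimensional k W2 :=
    LinearEquiv.finiteDimensional (Submodule.quotientEquivOfIsCompl _ _ hW2)
  set B := A1.map A.subtype ⊔ W2 with hB
  have hA : A ≤ A1.map A.subtype ⊔ (A ⊓ W₀) := by
    intro a ha
    obtain ⟨p, hp, q, hq, hpq⟩ := Submodule.mem_sup.1
      (show (⟨a, ha⟩ : A) ∈ (A ⊓ W₀).comap A.subtype ⊔ A1 by rw [hA1.sup_eq_top]; trivial)
    have he : (p : V) + (q : V) = a := congrArg Subtype.val hpq
    rw [← he, add_comm]
    exact Submodule.add_mem_sup ⟨q, hq, rfl⟩ hp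
  have hA1' : A1.map A.subtype ≤ A := by rintro _ ⟨a, -, rfl⟩; exact a.2
  have hc : IsCompl B W₀ := by
    refine ⟨Submodule.disjoint_def.2 fun v hv hw => ?_, codisjoint_iff.2 (eq_top_iff.2 ?_)⟩
    · obtain ⟨a, ⟨a', ha', rfl⟩, c, hc, rfl⟩ := Submodule.mem_sup.1 hv
      have hc0 : c = 0 := by
        refine Submodule.disjoint_def.1 hW2.disjoint c ?_ hc
        rw [show c = -(a'.1) + (A.subtype a' + c) by simp]
        exact Submodule.add_mem_sup (neg_mem a'.2) hw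
      subst hc0
      rw [add_zero] at hw ⊢
      have : a' = 0 := Submodule.disjoint_def.1 hA1.disjoint a' ⟨a'.2, hw⟩ ha'
      rw [this, map_zero]
    · rw [← hW2.sup_eq_top]
      refine sup_le (sup_le (hA.trans (sup_le (le_sup_of_le_left le_sup_left) ?_)) le_sup_right)
        (le_sup_of_le_left le_sup_right)
      exact inf_le_right.trans le_sup_right
  set π' := B.projection W₀ hc
  have hπ' : LinearMap.IsProj B π' :=
    ⟨fun v => Submodule.projection_apply_mem hc v, fun b hb => Submodule.projection_apply_left hc ⟨b, hb⟩⟩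
  have halm : Alm A B := by
    refine ⟨(A ⊓ W₀) ⊔ W2, inferInstance, hA.trans (sup_le (le_sup_of_le_left le_sup_left) ?_), ?_⟩
    · exact le_sup_left.trans le_sup_right
    · exact sup_le (hA1'.trans le_sup_left) (le_sup_right.trans le_sup_right)
  rw [tr_comm_eq hπ hπ' halm hf hg hfg]
  have hker : ∀ w ∈ W₀, π' w = 0 := fun w hw => (Submodule.projection_apply_eq_zero_iff hc).2 hw
  have hmem : ∀ v, v - π' v ∈ W₀ := fun v => by
    rw [← Submodule.projection_apply_eq_zero_iff hc, map_sub, hπ'.map_id _ (hπ'.map_mem v), sub_self]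
  refine tr_eq_zero_of_pow 2 (LinearMap.ext fun v => ?_)
  have hzero : ∀ w ∈ W₀, comm π' f g w = 0 := fun w hw => by
    rw [comm_apply, hker _ (hWf _ (hWg _ hw)), hker _ (hWf _ hw), map_zero, sub_zero]
  have hrange : comm π' f g v ∈ W₀ := by
    rw [comm_apply, show π' (f (g v)) - g (π' (f v)) = g (f v - π' (f v)) - (f (g v) - π' (f (g v))) by
      rw [map_sub, show g (f v) = f (g v) from (LinearMap.congr_fun hfg v).symm]; abel]
    exact sub_mem (hWg _ (hmem _)) (hmem _)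
  rw [pow_two, Module.End.mul_apply, hzero _ hrange, LinearMap.zero_apply]

end Groth.Agent.TateRes28
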