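import Groth.Agent.Lib.TateRes28.Semi
import Mathlib.RingTheory.Trace.Basic

/-! # The trace formula for residues from a lattice -/

set_option autoImplicit false
set_option linter.style.haveILetI false

namespace Groth.Agent.TateRes28

open WithZero
open scoped Multiplicative

theorem trace_formula_of_lattice {k K K' : Type*} [Field k] [Field K] [Field K'] [Algebra k K] [Algebra K K']
    [Algebra k K'] [IsScalarTower k K K'] {F : Type*} [Field F] [Algebra k F] [FiniteDimensional k F]
    (φ : K →ₐ[k] LaurentSeries F)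
    (hd₀ : ∀ (h : LaurentSeries F) (M : ℕ), ∃ y : K, Valued.v (φ y - h) ≤ exp (-(M : ℤ)))
    {ι : Type*} [Fintype ι] [Nonempty ι] {F' : ι → Type*} [∀ i, Field (F' i)] [∀ i, Algebra k (F' i)]
    [∀ i, FiniteDimensional k (F' i)] (ψ : ∀ i, K' →ₐ[k] LaurentSeries (F' i))
    (hd : ∀ (h : ∀ i, LaurentSeries (F' i)) (M : ℕ), ∃ y : K', ∀ i, Valued.v (ψ i y - h i) ≤ exp (-(M : ℤ)))
    {σ : Type*} [Fintype σ] (b : Module.Basis σ K K')
    (hA : ∀ z : K', (∀ i, Valued.v (ψ i z) ≤ 1) ↔ ∀ j, Valued.v (φ (b.repr z j)) ≤ 1) (y : K') (x : K) :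
    LocRes.locRes φ (Algebra.trace K K' y) x = ∑ i, LocRes.locRes (ψ i) y (algebraMap K K' x) := by
  classical
  let ψ₀ : PUnit.{1} → (K →ₐ[k] LaurentSeries F) := fun _ => φ
  obtain ⟨π, hπ⟩ : ∃ π : K →ₗ[k] K, LinearMap.IsProj (A0 ψ₀) π := by
    obtain ⟨C, hC⟩ := Submodule.exists_isCompl (A0 ψ₀)
    exact ⟨(A0 ψ₀).projection C hC, fun z => Submodule.projection_apply_mem hC z,
      fun z hz => Submodule.projection_apply_left hC ⟨z, hz⟩⟩
  have hbelow : ∀ f : K, tr (comm π (LinearMap.mulLeft k f) (LinearMap.mulLeft k x)) = LocRes.locRes φ f x := by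
    intro f
    have := tr_semi ψ₀ (fun h M => by
      obtain ⟨z, hz⟩ := hd₀ (h PUnit.unit) M
      exact ⟨z, fun _ => hz⟩) hπ f x
    rw [this, Fintype.sum_unique]
  have hA' : ∀ z : K', z ∈ A0 ψ ↔ ∀ j, b.repr z j ∈ A0 ψ₀ := by
    intro z
    simp only [mem_A0, hA]
    exact ⟨fun h1 j _ => h1 j, fun h1 j => h1 j PUnit.unit⟩
  let e : (σ → K) ≃ₗ[k] K' := b.equivFun.symm.restrictScalars k
  let M : σ → σ → K →ₗ[k] K := fun i j => LinearMap.mulLeft k (b.repr (y * b j) i)
  set π' : K' →ₗ[k] K' := e.toLinearMap ∘ₗ diagAct π ∘ₗ e.symm.toLinearMap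
  have hrepr : ∀ v i, b.repr (e v) i = v i := fun v i => congrFun (b.equivFun.apply_symm_apply v) i
  have hπ' : LinearMap.IsProj (A0 ψ) π' := by
    refine ⟨fun z => (hA' _).2 fun i => ?_, fun z hz => ?_⟩
    · show b.repr (e (diagAct π (e.symm z))) i ∈ _
      rw [hrepr]
      exact hπ.map_mem _
    · show e (diagAct π (e.symm z)) = z
      rw [show diagAct π (e.symm z) = e.symm z from funext fun i => hπ.map_id _ ((hA' z).1 hz i)]
      exact e.apply_symm_apply z
  have hf : LinearMap.mulLeft k y ∘ₗ e.toLinearMap = e.toLinearMap ∘ₗ matAct M := by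
    refine LinearMap.ext fun v => b.repr.injective (Finsupp.ext fun i => ?_)
    show b.repr (y * e v) i = b.repr (e (matAct M v)) i
    rw [hrepr, matAct_apply, show e v = ∑ j, v j • b j from b.equivFun_symm_apply v, Finset.mul_sum, map_sum,
      Finsupp.finsetSum_apply]
    refine Finset.sum_congr rfl fun j _ => ?_
    rw [mul_smul_comm, map_smul, Finsupp.smul_apply, smul_eq_mul, mul_comm]
    rfl
  have hg : LinearMap.mulLeft k (algebraMap K K' x) ∘ₗ e.toLinearMap =
      e.toLinearMap ∘ₗ diagAct (LinearMap.mulLeft k x) := by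
    refine LinearMap.ext fun v => b.repr.injective (Finsupp.ext fun i => ?_)
    show b.repr (algebraMap K K' x * e v) i = b.repr (e (diagAct (LinearMap.mulLeft k x) v)) i
    rw [hrepr, ← Algebra.smul_def, map_smul, Finsupp.smul_apply, smul_eq_mul, hrepr]
    rfl
  have hπe : π' ∘ₗ e.toLinearMap = e.toLinearMap ∘ₗ diagAct π := LinearMap.ext fun v => by
    show e (diagAct π (e.symm (e v))) = _
    rw [e.symm_apply_apply]
    rfl
  have hS := sml_comm hπ' (sta_mul_A0 ψ y) (sta_mul_A0 ψ (algebraMap K K' x))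
    (LinearMap.ext fun z => mul_left_comm y (algebraMap K K' x) z)
  have h1 := tr_semi ψ hd hπ' y (algebraMap K K' x)
  rw [tr_comm_transport e.toLinearMap e.injective hπe hf hg hS fun w => ⟨e.symm _, e.apply_symm_apply _⟩,
    (tr_comm_matAct M hπ (fun i j => sta_mul_A0 ψ₀ _) (sta_mul_A0 ψ₀ x)
      fun i j => LinearMap.ext fun z => mul_left_comm _ x z).2] at h1
  rw [Finset.sum_congr rfl fun i _ => hbelow (b.repr (y * b i) i)] at h1
  refine Eq.trans ?_ h1
  let L : K →ₗ[k] k :=
    { toFun := fun f => LocRes.locRes φ f x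
      map_add' := fun f f' => by simp only [LocRes.locRes, LocRes.resExp, map_add, add_mul]
      map_smul' := fun c f => by
        rw [RingHom.id_apply, ← hbelow, ← hbelow, smul_eq_mul]
        rw [← Sml.tr_smul (A := A0 ψ₀) c (sml_comm hπ (sta_mul_A0 ψ₀ f) (sta_mul_A0 ψ₀ x)
          (LinearMap.ext fun z => mul_left_comm f x z))]
        congr 1
        refine LinearMap.ext fun z => ?_
        simp only [comm_apply, LinearMap.smul_apply, LinearMap.mulLeft_apply, Algebra.smul_mul_assoc, map_smul,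
          smul_sub, mul_smul_comm] }
  rw [Algebra.trace_eq_matrix_trace b, Matrix.trace,
    show LocRes.locRes φ (∑ i, Matrix.diag _ i) x = _ from map_sum L _ _]
  refine Finset.sum_congr rfl fun i _ => ?_
  rw [Matrix.diag_apply, Algebra.leftMulMatrix_eq_repr_mul]
  rfl

end Groth.Agent.TateRes28
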