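import Groth.Agent.Lib.TateRes28.Transport
import Groth.Prelude.Def_LocRes

/-! # The abstract residue on a field of Laurent series is the coefficient of `X⁻¹` -/

set_option autoImplicit false
set_option linter.style.haveILetI false

namespace Groth.Agent.TateRes28

open WithZero
open scoped Multiplicative

variable (k F : Type*) [Field k] [Field F] [Algebra k F]

theorem coeff_smul' (c : k) (f : LaurentSeries F) (n : ℤ) : (c • f).coeff n = c • f.coeff n := by
  rfl

theorem smul_eq_C_mul (c : k) (f : LaurentSeries F) : c • f = HahnSeries.C (algebraMap k F c) * f := by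
  ext n
  rw [coeff_smul', HahnSeries.C_mul_eq_smul, HahnSeries.coeff_smul, algebraMap_smul]

/-- Power series inside Laurent series. -/
def int : Submodule k (LaurentSeries F) where
  carrier := {h | ∀ n < 0, h.coeff n = 0}
  zero_mem' n _ := rfl
  add_mem' {a b} ha hb n hn := by rw [HahnSeries.coeff_add, ha n hn, hb n hn, add_zero]
  smul_mem' c a ha n hn := by rw [coeff_smul', ha n hn, smul_zero]

/-- Truncation of negative terms. -/
noncomputable def trunc : LaurentSeries F →ₗ[k] LaurentSeries F where
  toFun h := ((PowerSeries.mk fun n : ℕ => h.coeff n : PowerSeries F) : LaurentSeries F)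
  map_add' a b := by
    ext n
    simp only [HahnSeries.coeff_add, PowerSeries.coeff_coe, PowerSeries.coeff_mk]
    split <;> simp
  map_smul' c a := by
    ext n
    simp only [RingHom.id_apply, coeff_smul', PowerSeries.coeff_coe, PowerSeries.coeff_mk]
    split <;> simp

variable {k F}

theorem trunc_coeff (h : LaurentSeries F) (n : ℤ) : (trunc k F h).coeff n = if n < 0 then 0 else h.coeff n := by
  show ((PowerSeries.mk fun n : ℕ => h.coeff n : PowerSeries F) : LaurentSeries F).coeff n = _
  rw [PowerSeries.coeff_coe, PowerSeries.coeff_mk]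
  split
  · rfl
  · rw [Int.natAbs_of_nonneg (by omega)]

theorem mem_int_iff {h : LaurentSeries F} : h ∈ int k F ↔ Valued.v h ≤ 1 := by
  rw [← exp_zero, ← neg_zero, LaurentSeries.valuation_le_iff_coeff_lt_eq_zero]
  rfl

theorem isProj_trunc : LinearMap.IsProj (int k F) (trunc k F) :=
  ⟨fun h n hn => by rw [trunc_coeff, if_pos hn], fun h hh => by
    ext n
    rw [trunc_coeff]
    split
    · exact (hh n ‹_›).symm
    · rfl⟩

variable (k) in
/-- Multiplication as a linear map. -/
noncomputable def mulL (f : LaurentSeries F) : LaurentSeries F →ₗ[k] LaurentSeries F where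
  toFun h := f * h
  map_add' := mul_add f
  map_smul' c h := by rw [RingHom.id_apply, smul_eq_C_mul, smul_eq_C_mul, mul_left_comm]

theorem mulL_apply (f h : LaurentSeries F) : mulL k f h = f * h := rfl

theorem mulL_comm (f g : LaurentSeries F) : mulL k f ∘ₗ mulL k g = mulL k g ∘ₗ mulL k f :=
  LinearMap.ext fun h => mul_left_comm f g h

theorem val_sub_trunc_le {h : LaurentSeries F} {N : ℤ} (hh : Valued.v h ≤ exp N) :
    Valued.v (h - trunc k F h) ≤ exp N := by
  rw [← neg_neg N, LaurentSeries.valuation_le_iff_coeff_lt_eq_zero] at hh ⊢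
  intro n hn
  rw [HahnSeries.coeff_sub, trunc_coeff, hh n hn]
  split <;> simp

theorem exists_bound (f : LaurentSeries F) : ∃ N : ℕ, Valued.v f ≤ exp (N : ℤ) := by
  rcases eq_or_ne (Valued.v f) 0 with h0 | h0
  · exact ⟨0, by rw [h0]; exact zero_le⟩
  · exact ⟨(log (Valued.v f)).toNat, by rw [← log_le_iff_le_exp h0]; omega⟩

theorem val_mul_le {f g : LaurentSeries F} {a b c : ℤ} (hf : Valued.v f ≤ exp a) (hg : Valued.v g ≤ exp b)
    (h : a + b ≤ c) : Valued.v (f * g) ≤ exp c := by
  rw [map_mul]
  exact (mul_le_mul' hf hg).trans (by rw [← exp_add]; exact exp_le_exp.2 h)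

theorem mem_int_of_le {f : LaurentSeries F} {a : ℤ} (hf : Valued.v f ≤ exp a) (ha : a ≤ 0) : f ∈ int k F :=
  mem_int_iff.2 (hf.trans (by rw [← exp_zero]; exact exp_le_exp.2 ha))

theorem val_D_le {f : LaurentSeries F} {a : ℤ} (hf : Valued.v f ≤ exp a) :
    Valued.v (LocRes.D F f) ≤ exp (a + 1) := by
  rw [← neg_neg a, LaurentSeries.valuation_le_iff_coeff_lt_eq_zero] at hf
  rw [← neg_neg (a + 1), LaurentSeries.valuation_le_iff_coeff_lt_eq_zero]
  intro n hn
  rw [LocRes.D_coeff, hf (n + 1) (by omega), smul_zero]

theorem coeff_neg_one_eq_zero {f : LaurentSeries F} (hf : f ∈ int k F) : f.coeff (-1) = 0 := hf _ (by norm_num)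

variable (k) in
/-- The one-term series of degree `n`. -/
noncomputable def singleL (n : ℤ) : F →ₗ[k] LaurentSeries F where
  toFun a := HahnSeries.single n a
  map_add' a b := by
    ext m
    simp only [HahnSeries.coeff_add, HahnSeries.coeff_single]
    split <;> simp
  map_smul' c a := by
    ext m
    rw [RingHom.id_apply, coeff_smul', HahnSeries.coeff_single, HahnSeries.coeff_single]
    split <;> simp

variable (k) in
/-- A coefficient as a linear map. -/
def coeffL (n : ℤ) : LaurentSeries F →ₗ[k] F where
  toFun h := h.coeff n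
  map_add' _ _ := rfl
  map_smul' c a := coeff_smul' k F c a n

theorem singleL_apply (n : ℤ) (a : F) : singleL k n a = HahnSeries.single n a := rfl

theorem coeffL_apply (n : ℤ) (h : LaurentSeries F) : coeffL k n h = h.coeff n := rfl

theorem sta_mulL [FiniteDimensional k F] (f : LaurentSeries F) : Sta (int k F) (mulL k f) := by
  obtain ⟨N, hN⟩ := exists_bound f
  refine ⟨⨆ i : Fin N, LinearMap.range (singleL k (-((i : ℕ) : ℤ) - 1)), inferInstance, ?_⟩
  rintro _ ⟨a, ha, rfl⟩
  have hv : Valued.v (f * a) ≤ exp (N : ℤ) := val_mul_le hN (b := 0) (by rw [exp_zero]; exact mem_int_iff.1 ha) (by omega)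
  have hv' := (LaurentSeries.valuation_le_iff_coeff_lt_eq_zero F (D := -(N : ℤ))).1 (by rw [neg_neg]; exact hv)
  have e : mulL k f a = trunc k F (f * a) +
      ∑ i : Fin N, singleL k (-((i : ℕ) : ℤ) - 1) ((f * a).coeff (-((i : ℕ) : ℤ) - 1)) := by
    rw [mulL_apply]
    ext n
    rw [HahnSeries.coeff_add, trunc_coeff, HahnSeries.coeff_sum]
    simp only [singleL_apply, HahnSeries.coeff_single]
    split
    · rename_i hn
      rw [zero_add]
      by_cases h2 : n < -(N : ℤ)
      · rw [hv' n h2, Finset.sum_eq_zero]
        intro i _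
        rw [if_neg]
        have := i.2
        omega
      · rw [Finset.sum_eq_single (⟨(-n - 1).toNat, by omega⟩ : Fin N)]
        · rw [if_pos (by push_cast; omega)]
          congr 1
          push_cast; omega
        · intro i _ hi
          rw [if_neg]
          intro hni
          exact hi (Fin.ext (by simp only; omega))
        · simp
    · rename_i hn
      rw [Finset.sum_eq_zero, add_zero]
      intro i _
      rw [if_neg]
      omega
  rw [e]
  exact Submodule.add_mem_sup (isProj_trunc.map_mem _) (Submodule.sum_mem _ fun i _ =>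
    Submodule.mem_iSup_of_mem i ⟨_, rfl⟩)

variable (k) in
/-- The residue operator of `f` and `g`. -/
noncomputable def opC (f g : LaurentSeries F) : LaurentSeries F →ₗ[k] LaurentSeries F :=
  comm (trunc k F) (mulL k f) (mulL k g)

theorem opC_apply (f g h : LaurentSeries F) :
    opC k f g h = trunc k F (f * (g * h)) - g * trunc k F (f * h) := rfl

theorem sml_opC [FiniteDimensional k F] (f g : LaurentSeries F) : Sml (int k F) (opC k f g) :=
  sml_comm isProj_trunc (sta_mulL f) (sta_mulL g) (mulL_comm f g)

theorem opC_add_left (f f' g : LaurentSeries F) : opC k (f + f') g = opC k f g + opC k f' g := by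
  refine LinearMap.ext fun h => ?_
  simp only [opC_apply, LinearMap.add_apply, add_mul, map_add, mul_add]
  abel

theorem opC_add_right (f g g' : LaurentSeries F) : opC k f (g + g') = opC k f g + opC k f g' := by
  refine LinearMap.ext fun h => ?_
  simp only [opC_apply, LinearMap.add_apply, add_mul, mul_add, map_add]
  abel

theorem opC_sum_left {ι : Type*} (s : Finset ι) (f : ι → LaurentSeries F) (g : LaurentSeries F) :
    opC k (∑ i ∈ s, f i) g = ∑ i ∈ s, opC k (f i) g := by
  classical
  induction s using Finset.induction_on with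
  | empty => exact LinearMap.ext fun h => by simp [opC_apply]
  | insert a s ha ih => rw [Finset.sum_insert ha, Finset.sum_insert ha, opC_add_left, ih]

theorem opC_sum_right {ι : Type*} (s : Finset ι) (f : LaurentSeries F) (g : ι → LaurentSeries F) :
    opC k f (∑ i ∈ s, g i) = ∑ i ∈ s, opC k f (g i) := by
  classical
  induction s using Finset.induction_on with
  | empty => exact LinearMap.ext fun h => by simp [opC_apply]
  | insert a s ha ih => rw [Finset.sum_insert ha, Finset.sum_insert ha, opC_add_right, ih]

theorem tr_high_left {f g : LaurentSeries F} {N M : ℤ} (hN : 0 ≤ N) (hM : 2 * N ≤ M)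
    (hf : Valued.v f ≤ exp (-M)) (hg : Valued.v g ≤ exp N) : tr (opC k f g) = 0 := by
  have key : ∀ a : LaurentSeries F, Valued.v a ≤ exp N → opC k f g a = 0 := by
    intro a ha
    rw [opC_apply, isProj_trunc.map_id _ (mem_int_of_le (val_mul_le (c := -M + (N + N)) hf (val_mul_le hg ha le_rfl) le_rfl) (by omega)),
      isProj_trunc.map_id _ (mem_int_of_le (val_mul_le (c := -M + N) hf ha le_rfl) (by omega)), mul_left_comm,
      sub_self]
  have hA : ∀ a ∈ int k F, Valued.v a ≤ exp N := fun a ha =>
    (mem_int_iff.1 ha).trans (by rw [← exp_zero]; exact exp_le_exp.2 hN)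
  refine tr_eq_zero_of_pow 2 (LinearMap.ext fun u => ?_)
  rw [pow_two, Module.End.mul_apply, opC_apply f g u, map_sub, key _ (hA _ (isProj_trunc.map_mem _)),
    key _ (val_mul_le hg (b := 0) (by rw [exp_zero]; exact mem_int_iff.1 (isProj_trunc.map_mem _)) (by omega)),
    sub_zero, LinearMap.zero_apply]

theorem tr_high_right {f g : LaurentSeries F} {N M : ℤ} (hN : 0 ≤ N) (hM : 2 * N ≤ M)
    (hf : Valued.v f ≤ exp N) (hg : Valued.v g ≤ exp (-M)) : tr (opC k f g) = 0 := by
  have h1 : ∀ u, opC k f g u ∈ int k F := fun u => by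
    rw [opC_apply]
    exact sub_mem (isProj_trunc.map_mem _) (mem_int_of_le (val_mul_le (b := 0) (c := -M) hg
      (by rw [exp_zero]; exact mem_int_iff.1 (isProj_trunc.map_mem _)) (by omega)) (by omega))
  have h2 : ∀ a ∈ int k F, Valued.v (opC k f g a) ≤ exp (-N) := fun a ha => by
    have hv : Valued.v a ≤ exp 0 := by rw [exp_zero]; exact mem_int_iff.1 ha
    rw [opC_apply, isProj_trunc.map_id _ (mem_int_of_le (val_mul_le (c := N - M) hf (val_mul_le (c := -M) hg hv (by omega)) (by omega)) (by omega)),
      mul_left_comm, ← mul_sub]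
    exact val_mul_le hg (val_sub_trunc_le (val_mul_le (c := N) hf hv (by omega))) (by omega)
  have h3 : ∀ a : LaurentSeries F, Valued.v a ≤ exp (-N) → opC k f g a = 0 := fun a ha => by
    rw [opC_apply,
      isProj_trunc.map_id _ (mem_int_of_le (val_mul_le (c := N + (-M - N)) hf (val_mul_le hg ha (le_of_eq rfl)) (by omega)) (by omega)),
      isProj_trunc.map_id _ (mem_int_of_le (val_mul_le (c := 0) hf ha (by omega)) le_rfl), mul_left_comm, sub_self]
  refine tr_eq_zero_of_pow 3 (LinearMap.ext fun u => ?_)
  rw [pow_succ, pow_two, Module.End.mul_apply, Module.End.mul_apply, h3 _ (h2 _ (h1 u)), LinearMap.zero_apply]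

theorem tr_single [FiniteDimensional k F] (a b : ℤ) (c d : F) :
    tr (opC k (HahnSeries.single a c) (HahnSeries.single b d)) =
      Algebra.trace k F ((HahnSeries.single a c * LocRes.D F (HahnSeries.single b d)).coeff (-1)) := by
  classical
  set m := c * d
  let term : ℤ → LaurentSeries F →ₗ[k] LaurentSeries F := fun n =>
    (singleL k n ∘ₗ Algebra.lmul k F m) ∘ₗ coeffL k (n - a - b)
  have hcoeff : ∀ u n, (opC k (HahnSeries.single a c) (HahnSeries.single b d) u).coeff n =
      (if n < 0 then 0 else m * u.coeff (n - a - b)) - (if n < b then 0 else m * u.coeff (n - a - b)) := by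
    intro u n
    rw [opC_apply, HahnSeries.coeff_sub, trunc_coeff, HahnSeries.coeff_single_mul, HahnSeries.coeff_single_mul,
      HahnSeries.coeff_single_mul, trunc_coeff, HahnSeries.coeff_single_mul]
    congr 1
    · split
      · rfl
      · rw [← mul_assoc]
    · simp only [show n - b < 0 ↔ n < b by omega, show n - b - a = n - a - b by ring]
      split
      · rw [mul_zero]
      · rw [← mul_assoc, mul_comm d]
  have hterm : ∀ u n j, (term j u).coeff n = if n = j then m * u.coeff (j - a - b) else 0 := by
    intro u n j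
    show (HahnSeries.single j (m * u.coeff (j - a - b))).coeff n = _
    rw [HahnSeries.coeff_single]
    split <;> rfl
  have hsml : ∀ n, Sml (int k F) (term n) := fun n => by
    refine Sml.mk' (LinearMap.range (singleL k n)) (LinearMap.range (singleL k n))
      (fun v => Submodule.mem_sup_right ⟨_, rfl⟩) fun v _ => ⟨_, rfl⟩
  have htr : ∀ n, tr (term n) = if a + b = 0 then Algebra.trace k F m else 0 := by
    intro n
    have hgood : Good (term n) (LinearMap.range (singleL k n)) := good_of_range_le fun v => ⟨_, rfl⟩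
    rw [tr_comp_comm (coeffL k (n - a - b)) (singleL k n ∘ₗ Algebra.lmul k F m) hgood, tr_eq_trace]
    split
    · rw [Algebra.trace_apply]
      congr 1
      refine LinearMap.ext fun x => ?_
      show (HahnSeries.single n (m * x)).coeff (n - a - b) = m * x
      rw [show n - a - b = n by omega, HahnSeries.coeff_single_same]
    · rw [show coeffL k (n - a - b) ∘ₗ singleL k n ∘ₗ Algebra.lmul k F m = 0 from LinearMap.ext fun x => ?_, map_zero]
      show (HahnSeries.single n (m * x)).coeff (n - a - b) = 0
      rw [HahnSeries.coeff_single_of_ne (by omega)]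
  have hrhs : Algebra.trace k F ((HahnSeries.single a c * LocRes.D F (HahnSeries.single b d)).coeff (-1)) =
      if a + b = 0 then b • Algebra.trace k F m else 0 := by
    rw [HahnSeries.coeff_single_mul, LocRes.D_coeff, HahnSeries.coeff_single]
    split <;> rename_i h <;> split <;> rename_i h' <;> first | omega | skip
    · rw [show (-1 - a + 1) = b by omega, mul_smul_comm, map_zsmul]
    · rw [smul_zero, mul_zero, map_zero]
  rw [hrhs]
  rcases le_total 0 b with hb | hb
  · have he : opC k (HahnSeries.single a c) (HahnSeries.single b d) = ∑ n ∈ Finset.Ico 0 b, term n := by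
      refine LinearMap.ext fun u => ?_
      ext n
      rw [hcoeff, LinearMap.sum_apply, HahnSeries.coeff_sum]
      simp only [hterm, Finset.sum_ite_eq, Finset.mem_Ico]
      split_ifs <;> first | omega | simp
    rw [he, Sml.tr_sum _ fun n _ => hsml n, Finset.sum_congr rfl fun n _ => htr n, Finset.sum_const, Int.card_Ico,
      sub_zero]
    split
    · rw [← natCast_zsmul, Int.toNat_of_nonneg hb]
    · rw [smul_zero]
  · have he : opC k (HahnSeries.single a c) (HahnSeries.single b d) = -∑ n ∈ Finset.Ico b 0, term n := by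
      refine LinearMap.ext fun u => ?_
      ext n
      rw [hcoeff, LinearMap.neg_apply, HahnSeries.coeff_neg, LinearMap.sum_apply, HahnSeries.coeff_sum]
      simp only [hterm, Finset.sum_ite_eq, Finset.mem_Ico]
      split_ifs <;> first | omega | simp
    rw [he, (Sml.sum _ fun n _ => hsml n).tr_neg, Sml.tr_sum _ fun n _ => hsml n,
      Finset.sum_congr rfl fun n _ => htr n, Finset.sum_const, Int.card_Ico, zero_sub]
    split
    · rw [← natCast_zsmul, Int.toNat_of_nonneg (by omega), neg_smul, neg_neg]
    · rw [smul_zero, neg_zero]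

/-- Tate's residue on Laurent series. -/
theorem tr_opC [FiniteDimensional k F] (f g : LaurentSeries F) :
    tr (opC k f g) = Algebra.trace k F ((f * LocRes.D F g).coeff (-1)) := by
  obtain ⟨N₁, h1⟩ := exists_bound f
  obtain ⟨N₂, h2⟩ := exists_bound g
  set N : ℤ := N₁ + N₂
  have hf : Valued.v f ≤ exp N := h1.trans (exp_le_exp.2 (by omega))
  have hg : Valued.v g ≤ exp N := h2.trans (exp_le_exp.2 (by omega))
  set M : ℤ := 2 * N + 1
  have split0 : ∀ h : LaurentSeries F, Valued.v h ≤ exp N →
      Valued.v (h - ∑ n ∈ Finset.Ico (-N) M, HahnSeries.single n (h.coeff n)) ≤ exp (-M) := by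
    intro h hh
    rw [← neg_neg N, LaurentSeries.valuation_le_iff_coeff_lt_eq_zero] at hh
    rw [LaurentSeries.valuation_le_iff_coeff_lt_eq_zero]
    intro n hn
    rw [HahnSeries.coeff_sub, HahnSeries.coeff_sum]
    simp only [HahnSeries.coeff_single]
    by_cases hm : n ∈ Finset.Ico (-N) M
    · refine sub_eq_zero.2 (Eq.symm ?_)
      exact (Finset.sum_eq_single_of_mem n hm (fun x _ hx => if_neg hx.symm)).trans (if_pos rfl)
    · rw [Finset.mem_Ico] at hm
      rw [hh n (by omega), zero_sub, neg_eq_zero]
      exact Finset.sum_eq_zero fun x hx => if_neg (by rw [Finset.mem_Ico] at hx; omega)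
  set f0 := ∑ n ∈ Finset.Ico (-N) M, HahnSeries.single n (f.coeff n)
  set g0 := ∑ n ∈ Finset.Ico (-N) M, HahnSeries.single n (g.coeff n)
  have hf' := split0 f hf
  have hg' := split0 g hg
  have hf0 : Valued.v f0 ≤ exp N := by
    rw [show f0 = f - (f - f0) by rw [sub_sub_cancel]]
    exact (Valuation.map_sub _ _ _).trans (max_le hf (hf'.trans (exp_le_exp.2 (by omega))))
  have e : opC k f g = opC k (f - f0) g + (opC k f0 (g - g0) + opC k f0 g0) := by
    rw [← opC_add_right, sub_add_cancel, ← opC_add_left, sub_add_cancel]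
  rw [e, (sml_opC _ _).tr_add ((sml_opC _ _).add (sml_opC _ _)), (sml_opC _ _).tr_add (sml_opC _ _),
    tr_high_left (by omega) (by omega) hf' hg, tr_high_right (by omega) (by omega) hf0 hg', zero_add, zero_add]
  have e2 : f * LocRes.D F g = (f - f0) * LocRes.D F g + f0 * LocRes.D F (g - g0) + f0 * LocRes.D F g0 := by
    rw [map_sub]; ring
  rw [e2, HahnSeries.coeff_add, HahnSeries.coeff_add,
    coeff_neg_one_eq_zero (k := k) (mem_int_of_le (val_mul_le (c := -M + (N + 1)) hf' (val_D_le hg) le_rfl) (by omega)),
    coeff_neg_one_eq_zero (k := k) (mem_int_of_le (val_mul_le (c := N + (-M + 1)) hf0 (val_D_le hg') le_rfl) (by omega)),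
    zero_add, zero_add]
  simp only [f0, g0, map_sum, Finset.sum_mul, Finset.mul_sum, HahnSeries.coeff_sum, opC_sum_left, opC_sum_right]
  rw [Sml.tr_sum _ fun i _ => Sml.sum _ fun j _ => sml_opC _ _]
  refine Finset.sum_congr rfl fun i _ => ?_
  rw [Sml.tr_sum _ fun j _ => sml_opC _ _]
  exact Finset.sum_congr rfl fun j _ => tr_single _ _ _ _

end Groth.Agent.TateRes28
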