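import Groth.Agent.Lib.TateRes28.Regular
import Groth.Agent.Lib.DiffExp28.RamDiff
import Groth.Agent.Lib.GeomFF26.DegreeOne

/-! # The Riemann–Hurwitz formula -/

set_option autoImplicit false
set_option linter.style.haveILetI false

namespace Groth.Agent.TateRes28

open WithZero FunFld FunField GeomFF26
open scoped Multiplicative

universe u v w

theorem finiteDimensional_coeffField {k : Type u} {K : Type v} [Field k] [Field K] [Algebra k K] {F : Type w}
    [Field F] [Algebra k F] (h : FF k K) (P : Place k K) {ψ : K →ₐ[k] LaurentSeries F}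
    (hψ : LocRes.IsExpansionAt P.1 ψ) : FiniteDimensional k F := by
  haveI hfin := h.finite_residueField P
  let c0 : P.O →ₗ[k] F :=
    { toFun := fun a => (ψ a.1).coeff 0
      map_add' := fun a b => by show (ψ (a.1 + b.1)).coeff 0 = _; rw [map_add]; rfl
      map_smul' := fun c a => by
        show (ψ ((c • a : P.O) : K)).coeff 0 = c • (ψ a.1).coeff 0
        rw [coe_smul_O, Algebra.smul_def, map_mul, LocRes.map_algebraMap, HahnSeries.C_mul_eq_smul,
          HahnSeries.coeff_smul, algebraMap_smul] }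
  have hker : LinearMap.ker (residueLin P) ≤ LinearMap.ker c0 := fun a ha => by
    rw [LinearMap.mem_ker, residueLin_apply, residue_eq_zero_iff, ← hψ.1, lt_one_iff_le] at ha
    exact (LaurentSeries.valuation_le_iff_coeff_lt_eq_zero F).1 ha 0 (by norm_num)
  let g := ((LinearMap.ker (residueLin P)).liftQ c0 hker) ∘ₗ
    ((residueLin P).quotKerEquivOfSurjective (residueLin_surjective P)).symm.toLinearMap
  refine @Module.Finite.of_surjective k _ _ _ _ k F _ _ _ (RingHom.id k) hfin g fun a => ?_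
  obtain ⟨f, hf, hfa⟩ := hψ.2.1 a
  refine ⟨(residueLin P).quotKerEquivOfSurjective (residueLin_surjective P) (Submodule.Quotient.mk ⟨f, hf⟩), ?_⟩
  simp only [g, LinearMap.comp_apply, LinearEquiv.coe_coe, LinearEquiv.symm_apply_apply, Submodule.liftQ_apply]
  exact hfa

variable {k k' : Type u} {K K' : Type v} [Field k] [Field k'] [Field K] [Field K']
  [Algebra k k'] [Algebra k K] [Algebra K K'] [Algebra k' K'] [Algebra k K']
  [IsScalarTower k k' K'] [IsScalarTower k K K'] [FiniteDimensional k k'] [FiniteDimensional K K']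

theorem riemann_hurwitz [Algebra.IsSeparable K K'] (hK : IsFunctionField k K) (hg : IsGeometric k K)
    (hK' : IsFunctionField k' K')
    (F : Place k K → Type w) [∀ P, Field (F P)] [∀ P, Algebra k (F P)]
    (φ : ∀ P, K →ₐ[k] LaurentSeries (F P)) (hφ : ∀ P, LocRes.IsExpansionAt P.1 (φ P))
    (F' : Place k' K' → Type w) [∀ Q, Field (F' Q)] [∀ Q, Algebra k' (F' Q)]
    (ψ : ∀ Q, K' →ₐ[k'] LaurentSeries (F' Q)) (hψ : ∀ Q, LocRes.IsExpansionAt Q.1 (ψ Q))
    (below : Place k' K' → Place k K) (e : Place k' K' → ℕ)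
    (he : ∀ Q (z : K), Q.1 (algebraMap K K' z) = (below Q).1 z ^ e Q)
    (x : K) (hx : ∀ P, LocRes.vDiff (φ P) 1 x ≠ 0) (hx' : ∀ Q, LocRes.vDiff (ψ Q) 1 (algebraMap K K' x) ≠ 0) :
    (Function.support fun Q => LocRes.diffExp (φ (below Q)) (ψ Q) (e Q) x).Finite ∧
    (Module.finrank k k' : ℤ) * (2 * (genus k' K' : ℤ) - 2) =
      (Module.finrank K K' : ℤ) * (2 * (genus k K : ℤ) - 2) +
      (Module.finrank k k' : ℤ) * ∑ᶠ Q, LocRes.diffExp (φ (below Q)) (ψ Q) (e Q) x * (Q.deg : ℤ) := by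
  classical
  have hh := ff hK
  have hh' := ff hK'
  haveI hfd : ∀ P, FiniteDimensional k (F P) := fun P => finiteDimensional_coeffField hh P (hφ P)
  haveI hfd' : ∀ Q, FiniteDimensional k' (F' Q) := fun Q => finiteDimensional_coeffField hh' Q (hψ Q)
  obtain ⟨P₀⟩ := nonempty_place hh
  have hKx : Wronskian26.Sep k x :=
    (sep_iff_D_ne_zero hh hg x).2 (D_ne_zero_of_D_map (φ P₀) (D_ne_zero_of_vDiff (hx P₀)))
  have hsep' : Wronskian26.Sep k' (algebraMap K K' x) := by
    have h1 : Wronskian26.Sep k (algebraMap K K' x) := DiffExp28.sep_algebraMap hKx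
    refine eq_top_iff.2 fun z hz => ?_
    clear hz
    obtain ⟨w, rfl⟩ := KaehlerDifferential.map_surjective k k' K' z
    obtain ⟨c, rfl⟩ := Submodule.mem_span_singleton.1
      (show w ∈ Submodule.span K' {KaehlerDifferential.D k K' (algebraMap K K' x)} by rw [h1]; trivial)
    rw [map_smul, KaehlerDifferential.map_D]
    exact Submodule.smul_mem _ _ (Submodule.mem_span_singleton_self _)
  -- below
  obtain ⟨ω, -, -, hne, hfin, hdiv⟩ := residue_weil' hK F φ hφ one_ne_zero
    (fun P => DiffExp28.isSeparable_of_sep (hφ P) hKx (D_ne_zero_of_vDiff (hx P)))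
    (fun P => D_ne_zero_of_vDiff (hx P))
  set C : Divisor k K := Finsupp.ofSupportFinite _ hfin
  have hC : ∀ P, C P = LocRes.ordDiff (φ P) 1 x := fun P => rfl
  have hdeg := (isCanonical_deg hK ⟨ω, hne, hdiv C hC⟩).2
  -- above
  obtain ⟨ω', -, -, hne', hfin', hdiv'⟩ := residue_weil' hK' F' ψ hψ one_ne_zero
    (fun Q => DiffExp28.isSeparable_of_sep (hψ Q) hsep' (D_ne_zero_of_vDiff (hx' Q)))
    (fun Q => D_ne_zero_of_vDiff (hx' Q))
  set C' : Divisor k' K' := Finsupp.ofSupportFinite _ hfin'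
  have hC' : ∀ Q, C' Q = LocRes.ordDiff (ψ Q) 1 (algebraMap K K' x) := fun Q => rfl
  have hdeg' := (isCanonical_deg hK' ⟨ω', hne', hdiv' C' hC'⟩).2
  -- change of constant field
  let down : Place k' K' → Place k K' := fun Q => ⟨Q.1, fun c => by
    rw [IsScalarTower.algebraMap_apply k k' K']; exact Q.2.1 _, Q.2.2⟩
  let conv : Place k K' → Place k' K' := fun R => ⟨R.1, fun c => by
    rcases eq_or_ne c 0 with rfl | hc
    · simp
    · exact (val_eq_one_of_isAlgebraic R ((Algebra.IsAlgebraic.isAlgebraic c).algebraMap) (by simpa using hc)).le,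
    R.2.2⟩
  let E : Place k' K' ≃ Place k K' := ⟨down, conv, fun _ => rfl, fun _ => rfl⟩
  have hQdeg : ∀ Q : Place k' K', ((E Q).deg : ℤ) = (Q.deg : ℤ) * Module.finrank k k' := fun Q => by
    rw [← deg_mul_finrank (E Q) Q rfl]; push_cast; ring
  set D := FunFld.conorm K' C
  have hD : ∀ Q, D (E Q) = (e Q : ℤ) * C (below Q) := fun Q => by
    have hover : IsOverWith (E Q) (below Q) (e Q) := he Q
    rw [conorm_apply hh, (isOver_iff hh).1 ⟨e Q, hover⟩, ramIdx_eq hover]
  have hdd : ∀ Q, LocRes.diffExp (φ (below Q)) (ψ Q) (e Q) x = C' Q - D (E Q) := fun Q => by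
    rw [hD, hC, hC']
    rfl
  set S : Finset (Place k' K') := C'.support ∪ D.support.map E.symm.toEmbedding
  have hsub : ∀ Q, C' Q ≠ 0 ∨ D (E Q) ≠ 0 → Q ∈ S := by
    intro Q hQ
    rcases hQ with hQ | hQ
    · exact Finset.mem_union_left _ (Finsupp.mem_support_iff.2 hQ)
    · exact Finset.mem_union_right _ (Finset.mem_map.2 ⟨E Q, Finsupp.mem_support_iff.2 hQ, E.symm_apply_apply Q⟩)
  have hsupp : (Function.support fun Q => LocRes.diffExp (φ (below Q)) (ψ Q) (e Q) x) ⊆ S := fun Q hQ => by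
    refine hsub Q ?_
    by_contra hne0
    push Not at hne0
    rw [Function.mem_support, hdd, hne0.1, hne0.2, sub_zero] at hQ
    exact hQ rfl
  refine ⟨S.finite_toSet.subset hsupp, ?_⟩
  have hsum : ∑ᶠ Q, LocRes.diffExp (φ (below Q)) (ψ Q) (e Q) x * (Q.deg : ℤ) =
      ∑ Q ∈ S, (C' Q - D (E Q)) * (Q.deg : ℤ) := by
    rw [finsum_eq_sum_of_support_subset _ (s := S) fun Q hQ => hsupp fun h0 => hQ (mul_eq_zero_of_left h0 _)]
    exact Finset.sum_congr rfl fun Q _ => by simp only [hdd]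
  have h1 : C'.deg = ∑ Q ∈ S, C' Q * (Q.deg : ℤ) := deg_eq_sum C' S Finset.subset_union_left
  have h2 : D.deg = (Module.finrank k k' : ℤ) * ∑ Q ∈ S, D (E Q) * (Q.deg : ℤ) := by
    rw [deg_eq_sum D (S.map E.toEmbedding) (fun R hR => Finset.mem_map.2
      ⟨E.symm R, hsub _ (Or.inr (by rw [E.apply_symm_apply]; exact Finsupp.mem_support_iff.1 hR)),
        E.apply_symm_apply R⟩), Finset.sum_map, Finset.mul_sum]
    exact Finset.sum_congr rfl fun Q _ => by rw [Equiv.coe_toEmbedding, hQdeg]; ring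
  have h3 : D.deg = (Module.finrank K K' : ℤ) * C.deg := deg_conorm hh C
  rw [hsum, ← hdeg', ← hdeg, h1, ← h3, h2, ← mul_add, ← Finset.sum_add_distrib]
  congr 1
  exact Finset.sum_congr rfl fun Q _ => by ring

end Groth.Agent.TateRes28
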