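import Groth.Agent.Lib.TateRes28.Residue

/-! # Regular differentials -/

set_option autoImplicit false
set_option linter.style.haveILetI false

namespace Groth.Agent.TateRes28

open WithZero FunFld FunField GeomFF26
open scoped Multiplicative

universe u v w

variable {k : Type u} {K : Type v} [Field k] [Field K] [Algebra k K]

theorem exists_divisor (hK : IsFunctionField k K) (hg : IsGeometric k K) (F : Place k K → Type w) [∀ P, Field (F P)]
    [∀ P, Algebra k (F P)] [∀ P, FiniteDimensional k (F P)]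
    (φ : ∀ P, K →ₐ[k] LaurentSeries (F P)) (hφ : ∀ P, LocRes.IsExpansionAt P.1 (φ P)) {x : K}
    (hx : KaehlerDifferential.D k K x ≠ 0) :
    ∃ C : Divisor k K, IsCanonical k K C ∧
      (∀ y : K, ∀ P, LocRes.vDiff (φ P) y x = P.1 y * exp (-C P)) ∧
      ∀ y : K, (∀ P, LocRes.vDiff (φ P) y x ≤ 1) ↔ y ∈ FunFld.L C := by
  obtain ⟨ω, -, -, hne, hfin, hdiv⟩ := residue_weil hK hg F φ hφ one_ne_zero hx
  set C : Divisor k K := Finsupp.ofSupportFinite _ hfin
  have hC : ∀ P, C P = LocRes.ordDiff (φ P) 1 x := fun P => rfl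
  have hv : ∀ y : K, ∀ P, LocRes.vDiff (φ P) y x = P.1 y * exp (-C P) := fun y P => by
    rw [hC, LocRes.ordDiff, neg_neg, vDiff_one,
      exp_log ((Valuation.ne_zero_iff _).2 (D_map_ne_zero (hφ P) hK.1 hg hx)), LocRes.vDiff, map_mul, (hφ P).1]
  refine ⟨C, ⟨ω, hne, hdiv C hC⟩, hv, fun y => forall_congr' fun P => ?_⟩
  rw [hv, exp_neg, mul_inv_le_iff₀ exp_pos, one_mul]

theorem finrank_regular (hK : IsFunctionField k K) (hg : IsGeometric k K) (F : Place k K → Type w)
    [∀ P, Field (F P)] [∀ P, Algebra k (F P)] [∀ P, FiniteDimensional k (F P)]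
    (φ : ∀ P, K →ₐ[k] LaurentSeries (F P)) (hφ : ∀ P, LocRes.IsExpansionAt P.1 (φ P)) {x : K}
    (hx : KaehlerDifferential.D k K x ≠ 0) :
    Module.finrank k (Submodule.span k {y : K | ∀ P, LocRes.vDiff (φ P) y x ≤ 1}) = genus k K := by
  obtain ⟨C, hC, -, hL⟩ := exists_divisor hK hg F φ hφ hx
  rw [show {y : K | ∀ P, LocRes.vDiff (φ P) y x ≤ 1} = (FunFld.L C : Set K) from Set.ext hL, Submodule.span_eq]
  exact (isCanonical_deg hK hC).1

theorem genus_one_differential (hK : IsFunctionField k K) (hg : IsGeometric k K) (h1 : genus k K = 1)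
    (F : Place k K → Type w) [∀ P, Field (F P)] [∀ P, Algebra k (F P)] [∀ P, FiniteDimensional k (F P)]
    (φ : ∀ P, K →ₐ[k] LaurentSeries (F P)) (hφ : ∀ P, LocRes.IsExpansionAt P.1 (φ P)) {v : K}
    (hv : KaehlerDifferential.D k K v ≠ 0) :
    (∃ u : K, u ≠ 0 ∧ ∀ P, LocRes.vDiff (φ P) u v = 1) ∧
      ∀ u u' : K, u ≠ 0 → (∀ P, LocRes.vDiff (φ P) u v = 1) → (∀ P, LocRes.vDiff (φ P) u' v = 1) →
        ∃ c : k, u' = c • u := by
  obtain ⟨C, hC, hval, hL⟩ := exists_divisor hK hg F φ hφ hv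
  obtain ⟨hell, hdeg⟩ := isCanonical_deg hK hC
  rw [h1] at hell hdeg
  have hell' : Module.finrank k (FunFld.L C) = 1 := hell
  haveI := finiteDimensional_L hK.1 C
  refine ⟨?_, fun u u' hu hu1 hu'1 => ?_⟩
  · obtain ⟨u, huL, hu0⟩ := Submodule.exists_mem_ne_zero_of_ne_bot (p := FunFld.L C) fun hb => by
      rw [hb, finrank_bot] at hell'; omega
    refine ⟨u, hu0, fun P => ?_⟩
    have hle : (0 : Divisor k K) ≤ C + FunFld.div k u := fun Q => by
      have h2 := (hL u).2 huL Q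
      rw [hval, val_eq_exp_neg_ord Q hu0, ← exp_add, ← exp_zero, exp_le_exp] at h2
      rw [Finsupp.zero_apply, Finsupp.add_apply, div_apply hK.1]
      omega
    have heq := eq_of_le_of_deg hK.1 hle (by rw [deg_add, deg_div hK.1, hdeg, deg_zero]; norm_num)
    have hP := DFunLike.congr_fun heq P
    rw [Finsupp.zero_apply, Finsupp.add_apply, div_apply hK.1] at hP
    rw [hval, val_eq_exp_neg_ord P hu0, ← exp_add, ← exp_zero, exp_inj]
    omega
  · obtain ⟨c, hc⟩ := exists_smul_eq_of_finrank_eq_one hell'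
      (x := (⟨u, (hL u).1 fun P => (hu1 P).le⟩ : FunFld.L C)) (fun e => hu (congrArg Subtype.val e))
      ⟨u', (hL u').1 fun P => (hu'1 P).le⟩
    exact ⟨c, (congrArg Subtype.val hc).symm⟩

end Groth.Agent.TateRes28
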