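import Groth.Agent.Lib.TateRes28.Semi
import Groth.Agent.Lib.FunField.RR
import Groth.Agent.Lib.FunField.Norm
import Groth.Agent.Lib.GeomFF26.SepPlace

/-! # The residue theorem and the trace formula -/

set_option autoImplicit false
set_option linter.style.haveILetI false

namespace Groth.Agent.TateRes28

open WithZero FunFld FunField GeomFF26
open scoped Multiplicative nonZeroDivisors

universe u v w

variable {k : Type u} {K : Type v} [Field k] [Field K] [Algebra k K]

theorem isDVR_O (h : FF k K) (P : Place k K) : IsDiscreteValuationRing P.O := by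
  refine h.isDiscreteValuationRing P.O P.2.1 fun hF => ?_
  obtain ⟨t, ht0, ht⟩ := exists_uniformizer P
  have htO : t ∈ P.O := by rw [mem_O_iff, ht, ← exp_zero, exp_le_exp]; norm_num
  obtain ⟨b, hb⟩ := hF.mul_inv_cancel (a := (⟨t, htO⟩ : P.O)) (fun e => ht0 (congrArg Subtype.val e))
  have h1 : P.1 t * P.1 (b : K) = 1 := by
    rw [← map_mul, show t * (b : K) = 1 from congrArg Subtype.val hb, map_one]
  have h2 : exp (-(1 : ℤ)) * P.1 (b : K) < 1 := by
    refine (mul_le_of_le_one_right' b.2).trans_lt ?_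
    rw [← exp_zero, exp_lt_exp]; norm_num
  rw [ht] at h1
  exact h2.ne h1

theorem residue_theorem (hK : IsFunctionField k K) (F : Place k K → Type w) [∀ P, Field (F P)]
    [∀ P, Algebra k (F P)] [∀ P, FiniteDimensional k (F P)]
    (φ : ∀ P, K →ₐ[k] LaurentSeries (F P)) (hφ : ∀ P, LocRes.IsExpansionAt P.1 (φ P)) (u v : K) :
    (Function.support fun P => LocRes.locRes (φ P) u v).Finite ∧ ∑ᶠ P, LocRes.locRes (φ P) u v = 0 := by
  classical
  have hh := ff hK
  haveI : Nonempty (Place k K) := nonempty_place hh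
  have hfin : ∀ f : K, {P | ¬ Valued.v (φ P f) ≤ 1}.Finite := fun f =>
    (finite_support_ord hh f).subset fun P hP => by
      intro h0
      refine hP ?_
      rw [(hφ P).1]
      exact (ord_nonneg_iff P f).1 h0.ge
  have h0 : FiniteDimensional k (A0 φ) := by
    haveI := finiteDimensional_L hh (0 : Divisor k K)
    refine Submodule.finiteDimensional_of_le (S₂ := FunFld.L (0 : Divisor k K)) fun y hy P => ?_
    rw [Finsupp.zero_apply, exp_zero, ← (hφ P).1]
    exact (mem_A0 φ).1 hy P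
  obtain ⟨hq, -⟩ := finrank_adele_quotient hK (0 : Divisor k K)
  obtain ⟨G0, hG0, hT⟩ := exists_fin_lift (ADK (0 : Divisor k K)).mkQ ⊤ (by
    rw [Submodule.range_mkQ])
  let Φ : adele k K →ₗ[k] RP k F :=
    ((LinearMap.pi fun P => expL (φ P) ∘ₗ LinearMap.proj P) ∘ₗ (adele k K).subtype).codRestrict _ fun a =>
      mem_RP.2 ((show ∀ᶠ P : Place k K in Filter.cofinite, P.1 (a.1 P) ≤ 1 from a.2).mono fun P hP => by
        show φ P (a.1 P) ∈ int k (F P)
        rw [mem_int_iff, (hφ P).1]; exact hP)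
  refine sum_locRes_eq_zero φ hfin h0 (G0.map Φ) (fun h => ?_) u v
  have hap : ∀ P, ∃ y : K, Valued.v (φ P y - h.1 P) ≤ 1 ∧ (h.1 P ∈ int k (F P) → y = 0) := fun P => by
    by_cases hP : h.1 P ∈ int k (F P)
    · exact ⟨0, by rw [map_zero, zero_sub, Valuation.map_neg]; exact mem_int_iff.1 hP, fun _ => rfl⟩
    · obtain ⟨y, hy⟩ := exists_approx (hφ P) (h.1 P) 0
      exact ⟨y, by simpa using hy, fun h1 => absurd h1 hP⟩
  choose y hy hy0 using hap
  have hadele : y ∈ adele k K := (mem_RP.1 h.2).mono fun P hP => by simp [hy0 P hP]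
  obtain ⟨g, hg, hge⟩ := hT (show (ADK (0 : Divisor k K)).mkQ ⟨y, hadele⟩ ∈ (⊤ : Submodule k _) from trivial)
  have hb : (⟨y, hadele⟩ : adele k K) - g ∈ ADK (0 : Divisor k K) := (Submodule.Quotient.eq _).1 hge.symm
  obtain ⟨d, hd, _, ⟨x, rfl⟩, he⟩ := Submodule.mem_sup.1 (show y - g.1 ∈ AD (0 : Divisor k K) ⊔ _ from hb)
  refine ⟨Φ g, ⟨g, hg, rfl⟩, x, fun P => ?_⟩
  have e1 : y P - g.1 P = d P + x := (congrFun he P).symm
  show Valued.v (h.1 P - φ P (g.1 P) - φ P x) ≤ 1
  rw [show h.1 P - φ P (g.1 P) - φ P x = (h.1 P - φ P (y P)) + φ P (d P) by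
    rw [show d P = y P - g.1 P - x by rw [e1]; ring, map_sub, map_sub]; ring]
  refine Valuation.map_add_le _ ?_ ?_
  · rw [Valuation.map_sub_swap]; exact hy P
  · rw [(hφ P).1]
    simpa using hd P

theorem trace_formula {K' : Type v} [Field K'] [Algebra K K'] [Algebra k K'] [IsScalarTower k K K']
    [FiniteDimensional K K'] [Algebra.IsSeparable K K'] (hK : IsFunctionField k K) (P : Place k K)
    {F : Type w} [Field F] [Algebra k F] [FiniteDimensional k F]
    {φ : K →ₐ[k] LaurentSeries F} (hφ : LocRes.IsExpansionAt P.1 φ)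
    (Qs : Finset (Place k K')) (hQs : ∀ Q, Q ∈ Qs ↔ IsOver Q P)
    (F' : Place k K' → Type w) [∀ Q, Field (F' Q)] [∀ Q, Algebra k (F' Q)] [∀ Q, FiniteDimensional k (F' Q)]
    (ψ : ∀ Q, K' →ₐ[k] LaurentSeries (F' Q)) (hψ : ∀ Q ∈ Qs, LocRes.IsExpansionAt Q.1 (ψ Q))
    (y : K') (x : K) :
    LocRes.locRes φ (Algebra.trace K K' y) x = ∑ Q ∈ Qs, LocRes.locRes (ψ Q) y (algebraMap K K' x) := by
  classical
  have hh := ff hK
  -- below
  let ψ₀ : PUnit.{1} → (K →ₐ[k] LaurentSeries F) := fun _ => φ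
  obtain ⟨π, hπ⟩ : ∃ π : K →ₗ[k] K, LinearMap.IsProj (A0 ψ₀) π := by
    obtain ⟨C, hC⟩ := Submodule.exists_isCompl (A0 ψ₀)
    exact ⟨(A0 ψ₀).projection C hC, fun z => Submodule.projection_apply_mem hC z,
      fun z hz => Submodule.projection_apply_left hC ⟨z, hz⟩⟩
  have hbelow : ∀ f : K, tr (comm π (LinearMap.mulLeft k f) (LinearMap.mulLeft k x)) = LocRes.locRes φ f x := by
    intro f
    have := tr_semi ψ₀ (fun h M => by
      obtain ⟨z, hz⟩ := exists_approx hφ (h PUnit.unit) (M : ℤ)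
      exact ⟨z, fun _ => hz⟩) hπ f x
    rw [this, Fintype.sum_unique]
  -- above
  haveI : Nonempty {Q // Q ∈ Qs} := by
    obtain ⟨Q, hQ⟩ := exists_over (K' := K') hh P
    exact ⟨⟨Q, (hQs Q).2 hQ⟩⟩
  let ψ₁ : ∀ Q : {Q // Q ∈ Qs}, K' →ₐ[k] LaurentSeries (F' Q.1) := fun Q => ψ Q.1
  have hd : ∀ (h : ∀ Q : {Q // Q ∈ Qs}, LaurentSeries (F' Q.1)) (M : ℕ),
      ∃ z : K', ∀ Q, Valued.v (ψ₁ Q z - h Q) ≤ exp (-(M : ℤ)) := by
    intro h M
    choose z hz using fun Q : {Q // Q ∈ Qs} => exists_approx (hψ Q.1 Q.2) (h Q) (M : ℤ)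
    obtain ⟨z', hz'⟩ := weak_approx Qs (fun Q => if hQ : Q ∈ Qs then z ⟨Q, hQ⟩ else 0) (fun _ => (M : ℤ))
    refine ⟨z', fun Q => ?_⟩
    have h1 := hz' Q.1 Q.2
    rw [dif_pos Q.2, ← (hψ Q.1 Q.2).1, map_sub] at h1
    rw [show ψ₁ Q z' - h Q = (ψ Q.1 z' - ψ Q.1 (z Q)) + (ψ Q.1 (z Q) - h Q) by ring]
    exact Valuation.map_add_le _ h1 (hz Q)
  -- the lattice
  haveI : IsDiscreteValuationRing P.O := isDVR_O hh P
  letI : Algebra P.O K' := ((algebraMap K K').comp P.O.subtype).toAlgebra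
  haveI : IsScalarTower P.O K K' := IsScalarTower.of_algebraMap_eq' rfl
  haveI : IsScalarTower k P.O K' := IsScalarTower.of_algebraMap_eq fun c =>
    IsScalarTower.algebraMap_apply k K K' c
  let R := integralClosure P.O K'
  haveI : Module.Finite P.O R := finite_integralClosure hh P
  haveI : Module.IsTorsionFree P.O R := by
    rw [Module.isTorsionFree_iff_algebraMap_injective]
    exact fun a b hab => Subtype.ext ((algebraMap K K').injective (congrArg Subtype.val hab))
  haveI : Module.Free P.O R := Module.free_of_finite_type_torsion_free'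
  haveI : IsLocalization (Algebra.algebraMapSubmonoid R (nonZeroDivisors P.O)) K' :=
    IsIntegralClosure.isLocalization P.O K K' R
  let b₀ := Module.Free.chooseBasis P.O R
  let b : Module.Basis _ K K' := b₀.localizationLocalization K (nonZeroDivisors P.O) K'
  have hb : ∀ i, b i = (b₀ i : K') := fun i => Module.Basis.localizationLocalization_apply K P.O⁰ K' b₀ i
  have hA : ∀ z : K', z ∈ A0 ψ₁ ↔ ∀ i, b.repr z i ∈ A0 ψ₀ := by
    intro z
    have e1 : z ∈ A0 ψ₁ ↔ IsIntegral P.O z := by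
      rw [mem_A0, isIntegral_iff hh P z]
      exact ⟨fun h1 Q hQ => ((hψ Q ((hQs Q).2 hQ)).1 z).symm.trans_le (h1 ⟨Q, (hQs Q).2 hQ⟩),
        fun h1 Q => ((hψ Q.1 Q.2).1 z).trans_le (h1 Q.1 ((hQs Q.1).1 Q.2))⟩
    have e2 : ∀ a : K, a ∈ A0 ψ₀ ↔ P.1 a ≤ 1 := fun a => by
      rw [mem_A0]
      exact ⟨fun h1 => (hφ.1 a).symm.trans_le (h1 PUnit.unit), fun h1 _ => (hφ.1 a).trans_le h1⟩
    simp only [e1, e2]
    constructor
    · intro hz i
      have := Module.Basis.localizationLocalization_repr_algebraMap K P.O⁰ K' b₀ (⟨z, hz⟩ : R) i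
      change b.repr z i = _ at this
      rw [this]
      exact (b₀.repr _ i).2
    · intro hz
      rw [← b.sum_repr z]
      refine IsIntegral.sum _ fun i _ => ?_
      rw [hb, show b.repr z i • (b₀ i : K') = (⟨b.repr z i, hz i⟩ : P.O) • (b₀ i : K') from
        (algebraMap_smul K (⟨b.repr z i, hz i⟩ : P.O) (b₀ i : K'))]
      exact IsIntegral.smul _ (b₀ i).2
  let e : (_ → K) ≃ₗ[k] K' := b.equivFun.symm.restrictScalars k
  let M : _ → _ → K →ₗ[k] K := fun i j => LinearMap.mulLeft k (b.repr (y * b j) i)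
  set π' : K' →ₗ[k] K' := e.toLinearMap ∘ₗ diagAct π ∘ₗ e.symm.toLinearMap
  have hrepr : ∀ v i, b.repr (e v) i = v i := fun v i => congrFun (b.equivFun.apply_symm_apply v) i
  have hπ' : LinearMap.IsProj (A0 ψ₁) π' := by
    refine ⟨fun z => (hA _).2 fun i => ?_, fun z hz => ?_⟩
    · show b.repr (e (diagAct π (e.symm z))) i ∈ _
      rw [hrepr]
      exact hπ.map_mem _
    · show e (diagAct π (e.symm z)) = z
      rw [show diagAct π (e.symm z) = e.symm z from funext fun i => hπ.map_id _ ((hA z).1 hz i)]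
      exact e.apply_symm_apply z
  have hf : LinearMap.mulLeft k y ∘ₗ e.toLinearMap = e.toLinearMap ∘ₗ matAct M := by
    refine LinearMap.ext fun v => b.repr.injective (Finsupp.ext fun i => ?_)
    show b.repr (y * e v) i = b.repr (e (matAct M v)) i
    rw [hrepr, matAct_apply, show e v = ∑ j, v j • b j from b.equivFun_symm_apply v, Finset.mul_sum, map_sum,
      Finsupp.finsetSum_apply]
    refine Finset.sum_congr rfl fun j _ => ?_
    rw [mul_smul_comm, map_smul, Finsupp.smul_apply, smul_eq_mul, mul_comm]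
    rfl
  have hg : LinearMap.mulLeft k (algebraMap K K' x) ∘ₗ e.toLinearMap =
      e.toLinearMap ∘ₗ diagAct (LinearMap.mulLeft k x) := by
    refine LinearMap.ext fun v => b.repr.injective (Finsupp.ext fun i => ?_)
    show b.repr (algebraMap K K' x * e v) i = b.repr (e (diagAct (LinearMap.mulLeft k x) v)) i
    rw [hrepr, ← Algebra.smul_def, map_smul, Finsupp.smul_apply, smul_eq_mul, hrepr]
    rfl
  have hπe : π' ∘ₗ e.toLinearMap = e.toLinearMap ∘ₗ diagAct π := LinearMap.ext fun v => by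
    show e (diagAct π (e.symm (e v))) = _
    rw [e.symm_apply_apply]
    rfl
  have hS := sml_comm hπ' (sta_mul_A0 ψ₁ y) (sta_mul_A0 ψ₁ (algebraMap K K' x))
    (LinearMap.ext fun z => mul_left_comm y (algebraMap K K' x) z)
  have h1 := tr_semi ψ₁ hd hπ' y (algebraMap K K' x)
  rw [tr_comm_transport e.toLinearMap e.injective hπe hf hg hS fun w => ⟨e.symm _, e.apply_symm_apply _⟩,
    (tr_comm_matAct M hπ (fun i j => sta_mul_A0 ψ₀ _) (sta_mul_A0 ψ₀ x)
      fun i j => LinearMap.ext fun z => mul_left_comm _ x z).2] at h1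
  rw [Finset.sum_congr rfl fun i _ => hbelow (b.repr (y * b i) i)] at h1
  rw [← Finset.sum_attach Qs]
  refine Eq.trans ?_ h1
  let L : K →ₗ[k] k :=
    { toFun := fun f => LocRes.locRes φ f x
      map_add' := fun f f' => by simp only [LocRes.locRes, LocRes.resExp, map_add, add_mul]
      map_smul' := fun c f => by
        rw [RingHom.id_apply, ← hbelow, ← hbelow, smul_eq_mul]
        rw [← Sml.tr_smul (A := A0 ψ₀) c (sml_comm hπ (sta_mul_A0 ψ₀ f) (sta_mul_A0 ψ₀ x)
          (LinearMap.ext fun z => mul_left_comm f x z))]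
        congr 1
        refine LinearMap.ext fun z => ?_
        simp only [comm_apply, LinearMap.smul_apply, LinearMap.mulLeft_apply, Algebra.smul_mul_assoc, map_smul,
          smul_sub, mul_smul_comm] }
  rw [Algebra.trace_eq_matrix_trace b, Matrix.trace, show LocRes.locRes φ (∑ i, Matrix.diag _ i) x = _ from map_sum L _ _]
  refine Finset.sum_congr rfl fun i _ => ?_
  rw [Matrix.diag_apply, Algebra.leftMulMatrix_eq_repr_mul]
  rfl

theorem exists_locRes_ne_zero_le {F : Type w} [Field F] [Algebra k F] [FiniteDimensional k F]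
    [Algebra.IsSeparable k F]
    {wv : Valuation K ℤᵐ⁰} {φ : K →ₐ[k] LaurentSeries F} (hφ : LocRes.IsExpansionAt wv φ)
    {u v : K} (hu : u ≠ 0) (hv : LocRes.D F (φ v) ≠ 0) :
    ∃ z : K, wv z ≤ exp (LocRes.ordDiff φ u v + 1) ∧ LocRes.locRes φ (z * u) v ≠ 0 := by
  obtain ⟨b, hb⟩ : ∃ b : F, Algebra.trace k F b ≠ 0 := by
    by_contra hcon
    push Not at hcon
    exact Algebra.trace_ne_zero k F (LinearMap.ext hcon)
  set g := φ u * LocRes.D F (φ v) with hgdef
  have hg0 : g ≠ 0 := mul_ne_zero (fun e => hu (φ.toRingHom.injective (e.trans (map_zero φ).symm)))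
    hv
  set c := LocRes.ordDiff φ u v with hc
  have hgv : Valued.v g = exp (-c) := by
    rw [hc, LocRes.ordDiff, neg_neg, LocRes.vDiff, exp_log ((Valuation.ne_zero_iff _).2 hg0)]
  obtain ⟨z, hz⟩ := exists_approx hφ (HahnSeries.single (-1) b / g) (-c)
  rw [neg_neg] at hz
  refine ⟨z, ?_, ?_⟩
  · rw [← hφ.1]
    rw [show φ z = (φ z - HahnSeries.single (-1) b / g) + HahnSeries.single (-1) b / g by ring]
    refine Valuation.map_add_le _ (hz.trans (exp_le_exp.2 (by omega))) ?_
    rw [map_div₀, hgv, div_le_iff₀ exp_pos, ← exp_add]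
    rw [show c + 1 + -c = -(-1) by ring, LaurentSeries.valuation_le_iff_coeff_lt_eq_zero]
    intro n hn
    exact HahnSeries.coeff_single_of_ne (by omega)
  · have e : Valued.v (φ (z * u) * LocRes.D F (φ v) - HahnSeries.single (-1) b) ≤ exp (-(0 : ℤ)) := by
      rw [map_mul φ, mul_assoc, ← hgdef,
        show φ z * g - HahnSeries.single (-1) b = (φ z - HahnSeries.single (-1) b / g) * g by
          rw [sub_mul, div_mul_cancel₀ _ hg0], map_mul, hgv]
      refine (mul_le_mul' hz le_rfl).trans ?_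
      rw [← exp_add, exp_le_exp]; omega
    have e2 := (LaurentSeries.valuation_le_iff_coeff_lt_eq_zero F).1 e (-1) (by norm_num)
    rw [HahnSeries.coeff_sub, HahnSeries.coeff_single_same, sub_eq_zero] at e2
    show Algebra.trace k F ((φ (z * u) * LocRes.D F (φ v)).coeff (-1)) ≠ 0
    rwa [e2]

theorem residue_weil' (hK : IsFunctionField k K) (F : Place k K → Type w) [∀ P, Field (F P)]
    [∀ P, Algebra k (F P)] [∀ P, FiniteDimensional k (F P)]
    (φ : ∀ P, K →ₐ[k] LaurentSeries (F P)) (hφ : ∀ P, LocRes.IsExpansionAt P.1 (φ P)) {u v : K}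
    (hu : u ≠ 0) (hsep : ∀ P, Algebra.IsSeparable k (F P)) (hv : ∀ P, LocRes.D (F P) (φ P v) ≠ 0) :
    ∃ ω : Module.Dual k (adele k K),
      (∀ a : adele k K, (Function.support fun P => LocRes.locRes (φ P) ((a : Place k K → K) P * u) v).Finite ∧
        ω a = ∑ᶠ P, LocRes.locRes (φ P) ((a : Place k K → K) P * u) v) ∧
      IsWeil ω ∧ ω ≠ 0 ∧
      (Function.support fun P => LocRes.ordDiff (φ P) u v).Finite ∧
      ∀ C : Divisor k K, (∀ P, C P = LocRes.ordDiff (φ P) u v) → IsDivOf ω C := by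
  classical
  have hh := ff hK
  have hg0 : ∀ P, φ P u * LocRes.D (F P) (φ P v) ≠ 0 := fun P =>
    mul_ne_zero (fun e => hu ((φ P).toRingHom.injective (e.trans (map_zero (φ P)).symm)))
      (hv P)
  have hgv : ∀ P, Valued.v (φ P u * LocRes.D (F P) (φ P v)) = exp (-LocRes.ordDiff (φ P) u v) := fun P => by
    rw [LocRes.ordDiff, neg_neg, LocRes.vDiff, exp_log ((Valuation.ne_zero_iff _).2 (hg0 P))]
  have hsmall : ∀ P (z : K) (n : ℤ), P.1 z ≤ exp n → n ≤ LocRes.ordDiff (φ P) u v →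
      LocRes.locRes (φ P) (z * u) v = 0 := by
    intro P z n hz hn
    show Algebra.trace k (F P) ((φ P (z * u) * LocRes.D (F P) (φ P v)).coeff (-1)) = 0
    rw [map_mul, mul_assoc, coeff_neg_one_eq_zero (k := k) (mem_int_of_le (val_mul_le (c := 0)
      (((hφ P).1 z).trans_le hz) (hgv P).le (by omega)) le_rfl), map_zero]
  set S₀ := {P : Place k K | ¬ P.1 u ≤ 1} ∪ {P : Place k K | ¬ P.1 v ≤ 1}
  have hpole : ∀ f : K, {P : Place k K | ¬ P.1 f ≤ 1}.Finite := fun f =>
    (finite_support_ord hh f).subset fun P hP h0 => hP ((ord_nonneg_iff P f).1 h0.ge)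
  have hS₀ : S₀.Finite := (hpole u).union (hpole v)
  have hout : ∀ P, P ∉ S₀ → 0 ≤ LocRes.ordDiff (φ P) u v := fun P hP => by
    simp only [S₀, Set.mem_union, Set.mem_ofPred_eq, not_or, not_not] at hP
    obtain ⟨a, ha⟩ := (LaurentSeries.val_le_one_iff_eq_coe (F P) _).1 (((hφ P).1 u).trans_le hP.1)
    obtain ⟨b, hb⟩ := (LaurentSeries.val_le_one_iff_eq_coe (F P) _).1 (((hφ P).1 v).trans_le hP.2)
    have h1 : Valued.v (φ P u * LocRes.D (F P) (φ P v)) ≤ 1 := by
      rw [← ha, ← hb, LocRes.D_coe, ← PowerSeries.coe_mul]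
      exact (LaurentSeries.val_le_one_iff_eq_coe (F P) _).2 ⟨_, rfl⟩
    rw [hgv, ← exp_zero, exp_le_exp] at h1
    omega
  have hsupp : ∀ a : adele k K,
      (Function.support fun P => LocRes.locRes (φ P) ((a : Place k K → K) P * u) v).Finite := fun a => by
    have h1 : {P : Place k K | ¬ P.1 (a.1 P) ≤ 1}.Finite := a.2
    refine (hS₀.union h1).subset fun P hP => ?_
    by_contra hne
    rw [Set.mem_union, not_or] at hne
    exact hP (hsmall P _ 0 (by rw [exp_zero]; exact not_not.1 hne.2) (hout P hne.1))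
  have hadd : ∀ P (a b : K), LocRes.locRes (φ P) ((a + b) * u) v =
      LocRes.locRes (φ P) (a * u) v + LocRes.locRes (φ P) (b * u) v := fun P a b => by
    simp only [LocRes.locRes, LocRes.resExp, add_mul, map_add]
  have hsmul : ∀ P (c : k) (a : K), LocRes.locRes (φ P) ((c • a) * u) v = c • LocRes.locRes (φ P) (a * u) v :=
    fun P c a => by
    simp only [LocRes.locRes, LocRes.resExp, Algebra.smul_def c a, map_mul, LocRes.map_algebraMap, mul_assoc]
    rw [← map_smul (Algebra.trace k (F P))]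
    congr 1
    rw [← smul_eq_C_mul]
    exact coeff_smul' k (F P) c _ _
  let ω : Module.Dual k (adele k K) :=
    { toFun := fun a => ∑ᶠ P, LocRes.locRes (φ P) (a.1 P * u) v
      map_add' := fun a b => by
        rw [← finsum_add_distrib (hsupp a) (hsupp b)]
        exact finsum_congr fun P => hadd P _ _
      map_smul' := fun c a => by
        rw [RingHom.id_apply, smul_finsum' c (hsupp a)]
        exact finsum_congr fun P => hsmul P c _ }
  have hWD : ∀ E : Divisor k K, (∀ P, E P ≤ LocRes.ordDiff (φ P) u v) → ω ∈ WD E := by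
    intro E hE
    rw [WD, Submodule.mem_dualAnnihilator]
    intro a ha
    obtain ⟨d, hd, _, ⟨x, rfl⟩, he⟩ := Submodule.mem_sup.1 (show a.1 ∈ AD E ⊔ _ from ha)
    show ∑ᶠ P, LocRes.locRes (φ P) (a.1 P * u) v = 0
    rw [← (residue_theorem hK F φ hφ (x * u) v).2]
    refine finsum_congr fun P => ?_
    rw [← congrFun he P]
    show LocRes.locRes (φ P) ((d P + x) * u) v = _
    rw [hadd, hsmall P _ _ (hd P) (hE P), zero_add]
  have hle : ∀ E : Divisor k K, ω ∈ WD E → ∀ P, E P ≤ LocRes.ordDiff (φ P) u v := by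
    intro E hE P
    by_contra hlt
    push Not at hlt
    haveI := hsep P
    obtain ⟨z, hz, hz0⟩ := exists_locRes_ne_zero_le (hφ P) hu (hv P)
    let a : Place k K → K := Pi.single P z
    have hAD : a ∈ AD E := fun Q => by
      rcases eq_or_ne Q P with rfl | hQ
      · simp only [a, Pi.single_eq_same]
        exact hz.trans (exp_le_exp.2 (by omega))
      · simp [a, Pi.single_eq_of_ne hQ]
    have hmem : a ∈ adele k K := AD_le_adele E hAD
    rw [WD, Submodule.mem_dualAnnihilator] at hE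
    have h0 := hE ⟨a, hmem⟩ (Submodule.mem_sup_left hAD)
    refine hz0 ?_
    rw [← h0]
    show _ = ∑ᶠ Q, LocRes.locRes (φ Q) (a Q * u) v
    rw [finsum_eq_single _ P fun Q hQ => by
      rw [show a Q = 0 from Pi.single_eq_of_ne hQ _, zero_mul]
      simp [LocRes.locRes, LocRes.resExp]]
    simp [a]
  set D₀ : Divisor k K := Finsupp.onFinset hS₀.toFinset
    (fun P => if P ∈ hS₀.toFinset then LocRes.ordDiff (φ P) u v else 0) (fun P hP => by
      by_contra hne
      exact hP (if_neg hne))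
  have hD₀ : ω ∈ WD D₀ := hWD D₀ fun P => by
    rw [Finsupp.onFinset_apply]
    split
    · exact le_rfl
    · rename_i hP
      exact hout P fun h1 => hP (hS₀.mem_toFinset.2 h1)
  have hW : IsWeil ω := ⟨D₀, hD₀⟩
  have hne : ω ≠ 0 := by
    intro h0
    obtain ⟨P⟩ := nonempty_place hh
    have h1 := hle (Finsupp.single P (LocRes.ordDiff (φ P) u v + 1)) (by rw [h0]; exact zero_mem _) P
    rw [Finsupp.single_eq_same] at h1
    omega
  obtain ⟨C₀, hC₀⟩ := exists_isDivOf hK hW hne
  have hC₀eq : ∀ P, C₀ P = LocRes.ordDiff (φ P) u v := by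
    intro P
    have h1 := hle C₀ ((hC₀ C₀).2 le_rfl)
    refine le_antisymm (h1 P) ?_
    have h2 := (hC₀ (C₀ + Finsupp.single P (LocRes.ordDiff (φ P) u v - C₀ P))).1 (hWD _ fun Q => by
      rw [Finsupp.add_apply]
      rcases eq_or_ne Q P with rfl | hQ
      · simp
      · simpa [Finsupp.single_eq_of_ne hQ] using h1 Q)
    have h3 := h2 P
    rw [Finsupp.add_apply, Finsupp.single_eq_same] at h3
    omega
  refine ⟨ω, fun a => ⟨hsupp a, rfl⟩, hW, hne,
    C₀.finite_support.subset fun P hP => ?_, fun C hC => ?_⟩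
  · rw [Function.mem_support, hC₀eq P]; exact hP
  · rwa [show C = C₀ from Finsupp.ext fun P => (hC P).trans (hC₀eq P).symm]

theorem residue_weil (hK : IsFunctionField k K) (hg : IsGeometric k K) (F : Place k K → Type w) [∀ P, Field (F P)]
    [∀ P, Algebra k (F P)] [∀ P, FiniteDimensional k (F P)]
    (φ : ∀ P, K →ₐ[k] LaurentSeries (F P)) (hφ : ∀ P, LocRes.IsExpansionAt P.1 (φ P)) {u v : K}
    (hu : u ≠ 0) (hv : KaehlerDifferential.D k K v ≠ 0) :
    ∃ ω : Module.Dual k (adele k K),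
      (∀ a : adele k K, (Function.support fun P => LocRes.locRes (φ P) ((a : Place k K → K) P * u) v).Finite ∧
        ω a = ∑ᶠ P, LocRes.locRes (φ P) ((a : Place k K → K) P * u) v) ∧
      IsWeil ω ∧ ω ≠ 0 ∧
      (Function.support fun P => LocRes.ordDiff (φ P) u v).Finite ∧
      ∀ C : Divisor k K, (∀ P, C P = LocRes.ordDiff (φ P) u v) → IsDivOf ω C := by
  exact residue_weil' hK F φ hφ hu (fun P => isSeparable_of_expansion (hφ P) hK.1 hg)
    (fun P => D_map_ne_zero (hφ P) hK.1 hg hv)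

end Groth.Agent.TateRes28
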