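import Groth.Agent.Lib.TateRes28.Local

/-! # Tate's residue through finitely many expansions, and through restricted products -/

set_option autoImplicit false
set_option linter.style.haveILetI false

namespace Groth.Agent.TateRes28

open WithZero
open scoped Multiplicative

variable {k K : Type*} [Field k] [Field K] [Algebra k K] {ι : Type*} {F : ι → Type*}
  [∀ i, Field (F i)] [∀ i, Algebra k (F i)]

theorem exists_fin_lift {V W : Type*} [AddCommGroup V] [Module k V] [AddCommGroup W] [Module k W]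
    (φ : V →ₗ[k] W) (T : Submodule k W) [FiniteDimensional k T] (hT : T ≤ LinearMap.range φ) :
    ∃ H : Submodule k V, FiniteDimensional k H ∧ T ≤ H.map φ := by
  classical
  let b := Module.finBasis k T
  have : ∀ i, ∃ v, φ v = (b i : W) := fun i => hT (b i).2
  choose v hv using this
  refine ⟨Submodule.span k (Set.range v), FiniteDimensional.span_of_finite k (Set.finite_range v), fun t ht => ?_⟩
  have h1 := congrArg Subtype.val (b.sum_repr ⟨t, ht⟩)
  rw [Submodule.coe_sum] at h1
  rw [show t = _ from h1.symm]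
  refine Submodule.sum_mem _ fun i _ => ?_
  rw [Submodule.coe_smul]
  exact Submodule.smul_mem _ _ ⟨v i, Submodule.subset_span ⟨i, rfl⟩, hv i⟩

/-- An expansion as a linear map. -/
noncomputable def expL {F : Type*} [Field F] [Algebra k F] (φ : K →ₐ[k] LaurentSeries F) :
    K →ₗ[k] LaurentSeries F where
  toFun := φ
  map_add' := map_add φ
  map_smul' c y := by
    rw [RingHom.id_apply, Algebra.smul_def, map_mul, LocRes.map_algebraMap, smul_eq_C_mul]

variable (ψ : ∀ i, K →ₐ[k] LaurentSeries (F i))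

/-- All the expansions at once. -/
noncomputable def J : K →ₗ[k] ∀ i, LaurentSeries (F i) := LinearMap.pi fun i => expL (ψ i)

theorem J_apply (y : K) (i : ι) : J ψ y i = ψ i y := rfl

/-- The elements integral at all the expansions. -/
noncomputable def A0 : Submodule k K := (Submodule.pi Set.univ fun i => int k (F i)).comap (J ψ)

theorem mem_A0 {y : K} : y ∈ A0 ψ ↔ ∀ i, Valued.v (ψ i y) ≤ 1 := by
  simp [A0, Submodule.mem_pi, J_apply, mem_int_iff]

variable (k F) in
/-- Componentwise multiplication. -/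
noncomputable def mulPi (f : ∀ i, LaurentSeries (F i)) :
    (∀ i, LaurentSeries (F i)) →ₗ[k] ∀ i, LaurentSeries (F i) :=
  LinearMap.pi fun i => mulL k (f i) ∘ₗ LinearMap.proj i

theorem mulPi_apply (f h : ∀ i, LaurentSeries (F i)) (i : ι) : mulPi k F f h i = f i * h i := rfl

theorem mulPi_comm (f g : ∀ i, LaurentSeries (F i)) :
    mulPi k F f ∘ₗ mulPi k F g = mulPi k F g ∘ₗ mulPi k F f :=
  LinearMap.ext fun h => funext fun i => mul_left_comm (f i) (g i) (h i)

variable (k F) in
/-- Componentwise truncation. -/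
noncomputable def truncPi : (∀ i, LaurentSeries (F i)) →ₗ[k] ∀ i, LaurentSeries (F i) :=
  LinearMap.pi fun i => trunc k (F i) ∘ₗ LinearMap.proj i

theorem isProj_truncPi :
    LinearMap.IsProj (Submodule.pi Set.univ fun i => int k (F i)) (truncPi k F) :=
  ⟨fun h i _ => isProj_trunc.map_mem (h i), fun h hh => funext fun i => isProj_trunc.map_id _ (hh i trivial)⟩

theorem comm_truncPi_apply (f g h : ∀ i, LaurentSeries (F i)) (i : ι) :
    comm (truncPi k F) (mulPi k F f) (mulPi k F g) h i = opC k (f i) (g i) (h i) := rfl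

section finite

variable [Fintype ι] [∀ i, FiniteDimensional k (F i)]

theorem sta_mulPi (f : ∀ i, LaurentSeries (F i)) :
    Sta (Submodule.pi Set.univ fun i => int k (F i)) (mulPi k F f) := by
  classical
  choose G hG hle using fun i => sta_mulL (k := k) (f i)
  refine ⟨⨆ i, (G i).map (LinearMap.single k (fun i => LaurentSeries (F i)) i), inferInstance, ?_⟩
  rintro _ ⟨a, ha, rfl⟩
  choose a' ha' g hg he using fun i => Submodule.mem_sup.1 (hle i ⟨a i, ha i trivial, rfl⟩)
  have e : mulPi k F f a = a' + ∑ i, LinearMap.single k (fun i => LaurentSeries (F i)) i (g i) := by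
    funext j
    rw [Pi.add_apply, Finset.sum_apply, mulPi_apply, ← mulL_apply (k := k), ← he j]
    congr 1
    simp
  rw [e]
  exact Submodule.add_mem_sup (fun i _ => ha' i) (Submodule.sum_mem _ fun i _ =>
    Submodule.mem_iSup_of_mem i ⟨g i, hg i, rfl⟩)

theorem tr_comm_truncPi (f g : ∀ i, LaurentSeries (F i)) :
    tr (comm (truncPi k F) (mulPi k F f) (mulPi k F g)) =
      ∑ i, Algebra.trace k (F i) ((f i * LocRes.D (F i) (g i)).coeff (-1)) := by
  classical
  set P := Submodule.pi Set.univ fun i => int k (F i)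
  let blk : ι → (∀ i, LaurentSeries (F i)) →ₗ[k] ∀ i, LaurentSeries (F i) := fun i =>
    (LinearMap.single k (fun i => LaurentSeries (F i)) i ∘ₗ opC k (f i) (g i)) ∘ₗ LinearMap.proj i
  have heq : comm (truncPi k F) (mulPi k F f) (mulPi k F g) = ∑ i, blk i := by
    refine LinearMap.ext fun v => funext fun i => ?_
    rw [comm_truncPi_apply, LinearMap.sum_apply, Finset.sum_apply]
    symm
    refine (Finset.sum_eq_single i (fun b _ hb => ?_) (by simp)).trans ?_
    · simp [blk, Pi.single_eq_of_ne (Ne.symm hb)]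
    · simp [blk]
  have hblk : ∀ i, Sml P (blk i) := by
    intro i
    obtain ⟨G, hG, hr, hA⟩ := sml_opC (k := k) (f i) (g i)
    refine Sml.mk' (G.map (LinearMap.single k (fun i => LaurentSeries (F i)) i))
      (G.map (LinearMap.single k (fun i => LaurentSeries (F i)) i))
      (fun v => ?_) fun a ha => ⟨_, hA ⟨a i, ha i trivial, rfl⟩, rfl⟩
    obtain ⟨a, ha, h, hh, he⟩ := Submodule.mem_sup.1 (hr ⟨v i, rfl⟩)
    show LinearMap.single k (fun i => LaurentSeries (F i)) i (opC k (f i) (g i) (v i)) ∈ _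
    rw [← he, map_add]
    refine Submodule.add_mem_sup (fun l _ => ?_) ⟨h, hh, rfl⟩
    rcases eq_or_ne l i with rfl | hl
    · simpa using ha
    · simp [Pi.single_eq_of_ne hl]
  rw [heq, Sml.tr_sum _ fun i _ => hblk i]
  refine Finset.sum_congr rfl fun i _ => ?_
  obtain ⟨U, hU⟩ := (hblk i).exists_good
  let pj : (∀ j, LaurentSeries (F j)) →ₗ[k] LaurentSeries (F i) := LinearMap.proj i
  let sg : LaurentSeries (F i) →ₗ[k] (∀ j, LaurentSeries (F j)) :=
    LinearMap.single k (fun i => LaurentSeries (F i)) i ∘ₗ opC k (f i) (g i)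
  have hU' : Good (sg ∘ₗ pj) U := hU
  have h1 : tr (sg ∘ₗ pj) = tr (pj ∘ₗ sg) :=
    @tr_comp_comm k (∀ j, LaurentSeries (F j)) (LaurentSeries (F i)) _ _ _ _ _ pj sg U hU'
  have hcomp : pj ∘ₗ sg = opC k (f i) (g i) := LinearMap.ext fun v => by simp [pj, sg]
  have h2 : tr (sg ∘ₗ pj) = Algebra.trace k (F i) ((f i * LocRes.D (F i) (g i)).coeff (-1)) := by
    rw [h1, hcomp]; exact tr_opC (k := k) (f i) (g i)
  exact h2

theorem sta_mul_A0 (f : K) : Sta (A0 ψ) (LinearMap.mulLeft k f) := by
  obtain ⟨G, hG, hle⟩ := sta_mulPi (k := k) fun i => ψ i f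
  set P := Submodule.pi Set.univ fun i => int k (F i)
  haveI hG1 : FiniteDimensional k (G.map P.mkQ) := Module.Finite.map G P.mkQ
  haveI hG2 : FiniteDimensional k (G.map P.mkQ ⊓ LinearMap.range (P.mkQ ∘ₗ J ψ) : Submodule k _) :=
    Submodule.finiteDimensional_of_le inf_le_left
  obtain ⟨H, hH, hT⟩ := exists_fin_lift (P.mkQ ∘ₗ J ψ) (G.map P.mkQ ⊓ LinearMap.range (P.mkQ ∘ₗ J ψ)) inf_le_right
  refine ⟨H, hH, ?_⟩
  rintro _ ⟨a, ha, rfl⟩
  have e : J ψ (f * a) = mulPi k F (fun i => ψ i f) (J ψ a) := funext fun i => map_mul (ψ i) f a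
  obtain ⟨p, hp, g, hg, he⟩ := Submodule.mem_sup.1 (hle ⟨J ψ a, ha, rfl⟩)
  have hq : (P.mkQ ∘ₗ J ψ) (f * a) = P.mkQ g := by
    rw [LinearMap.comp_apply, e, ← he, map_add, show P.mkQ p = 0 from (Submodule.Quotient.mk_eq_zero P).2 hp, zero_add]
  obtain ⟨h, hh, hhe⟩ := hT ⟨⟨g, hg, hq.symm⟩, ⟨f * a, rfl⟩⟩
  show f * a ∈ A0 ψ ⊔ H
  rw [show f * a = (f * a - h) + h by ring]
  refine Submodule.add_mem_sup ?_ hh
  show J ψ (f * a - h) ∈ P
  rw [← Submodule.Quotient.mk_eq_zero P]
  show P.mkQ (J ψ (f * a - h)) = 0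
  rw [map_sub (J ψ), map_sub P.mkQ]
  exact sub_eq_zero.2 hhe.symm

/-- Tate's residue on a field seen through finitely many expansions with dense image. -/
theorem tr_semi [Nonempty ι]
    (hd : ∀ (h : ∀ i, LaurentSeries (F i)) (M : ℕ), ∃ y : K, ∀ i, Valued.v (ψ i y - h i) ≤ exp (-(M : ℤ)))
    {π : K →ₗ[k] K} (hπ : LinearMap.IsProj (A0 ψ) π) (f g : K) :
    tr (comm π (LinearMap.mulLeft k f) (LinearMap.mulLeft k g)) = ∑ i, LocRes.locRes (ψ i) f g := by
  classical
  set P := Submodule.pi Set.univ fun i => int k (F i)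
  have hinj : Function.Injective (J ψ) := fun a b h =>
    (ψ (Classical.arbitrary ι)).toRingHom.injective (congrFun h (Classical.arbitrary ι))
  set N := (LinearMap.ker π).map (J ψ)
  have hc : IsCompl P N := by
    refine ⟨Submodule.disjoint_def.2 ?_, codisjoint_iff.2 (eq_top_iff.2 fun h _ => ?_)⟩
    · rintro _ hP ⟨y, hy, rfl⟩
      rw [show y = 0 from (hπ.map_id y hP).symm.trans hy, map_zero]
    · obtain ⟨y, hy⟩ := hd h 0
      rw [show h = (h - J ψ y + J ψ (π y)) + J ψ (y - π y) by rw [map_sub]; abel]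
      refine Submodule.add_mem_sup (add_mem (fun i _ => ?_) (hπ.map_mem y)) ⟨_, ?_, rfl⟩
      · show (h - J ψ y) i ∈ int k (F i)
        rw [mem_int_iff, Pi.sub_apply, J_apply, Valuation.map_sub_swap]
        simpa using hy i
      · show π (y - π y) = 0
        rw [map_sub, hπ.map_id _ (hπ.map_mem y), sub_self]
  set π' := P.projection N hc
  have hπ' : LinearMap.IsProj P π' :=
    ⟨fun v => Submodule.projection_apply_mem hc v, fun b hb => Submodule.projection_apply_left hc ⟨b, hb⟩⟩
  set fv : ∀ i, LaurentSeries (F i) := fun i => ψ i f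
  set gv : ∀ i, LaurentSeries (F i) := fun i => ψ i g
  have hS := sml_comm hπ' (sta_mulPi fv) (sta_mulPi gv) (mulPi_comm fv gv)
  have hmul : ∀ a : K, mulPi k F (fun i => ψ i a) ∘ₗ J ψ = J ψ ∘ₗ LinearMap.mulLeft k a := fun a =>
    LinearMap.ext fun y => funext fun i => (map_mul (ψ i) a y).symm
  have hπJ : π' ∘ₗ J ψ = J ψ ∘ₗ π := LinearMap.ext fun y => by
    rw [LinearMap.comp_apply, LinearMap.comp_apply]
    conv_lhs => rw [show y = π y + (y - π y) by abel]
    rw [map_add, map_add, hπ'.map_id _ (hπ.map_mem y),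
      (Submodule.projection_apply_eq_zero_iff hc).2 ⟨_, by
        show π (y - π y) = 0
        rw [map_sub, hπ.map_id _ (hπ.map_mem y), sub_self], rfl⟩, add_zero]
  have hr : ∀ w, comm π' (mulPi k F fv) (mulPi k F gv) w ∈ LinearMap.range (J ψ) := by
    intro w
    choose B hB using fun i => exists_bound (fv i)
    choose C hC using fun i => exists_bound (gv i)
    set M : ℕ := ∑ i, (B i + C i)
    obtain ⟨y, hy⟩ := hd w M
    rw [show w = J ψ y + (w - J ψ y) by abel, map_add]
    have hzero : comm π' (mulPi k F fv) (mulPi k F gv) (w - J ψ y) = 0 := by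
      have hle : ∀ i, B i + C i ≤ M := fun i =>
        Finset.single_le_sum (f := fun i => B i + C i) (fun _ _ => Nat.zero_le _) (Finset.mem_univ i)
      have he : ∀ i, Valued.v ((w - J ψ y) i) ≤ exp (-(M : ℤ)) := fun i => by
        rw [Pi.sub_apply, Valuation.map_sub_swap]; exact hy i
      rw [comm_apply, hπ'.map_id _ (show mulPi k F fv (mulPi k F gv (w - J ψ y)) ∈ P from fun i _ => ?_),
        hπ'.map_id _ (show mulPi k F fv (w - J ψ y) ∈ P from fun i _ => ?_)]
      · exact sub_eq_zero.2 (funext fun i => mul_left_comm _ _ _)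
      · exact mem_int_of_le (val_mul_le (c := 0) (hB i) (he i) (by have := hle i; omega)) le_rfl
      · exact mem_int_of_le (val_mul_le (c := 0) (hB i) (val_mul_le (c := (C i : ℤ) - M) (hC i) (he i) (by omega))
          (by have := hle i; omega)) le_rfl
    rw [hzero, add_zero]
    refine ⟨comm π (LinearMap.mulLeft k f) (LinearMap.mulLeft k g) y, ?_⟩
    have h1 := fun v => LinearMap.congr_fun hπJ v
    have h2 := fun a v => LinearMap.congr_fun (hmul a) v
    simp only [LinearMap.comp_apply] at h1 h2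
    rw [comm_apply, comm_apply, map_sub, h2 g, h2 f, h1, h2 f, h1, h2 g]
  rw [← tr_comm_transport (J ψ) hinj hπJ (hmul f) (hmul g) hS hr,
    tr_comm_eq hπ' isProj_truncPi Alm.refl (sta_mulPi fv) (sta_mulPi gv) (mulPi_comm fv gv), tr_comm_truncPi]
  rfl

end finite

section restricted

variable (k F) in
/-- The restricted product. -/
def RP : Submodule k (∀ i, LaurentSeries (F i)) where
  carrier := {h | ∀ᶠ i in Filter.cofinite, h i ∈ int k (F i)}
  add_mem' {a b} (ha : ∀ᶠ i in Filter.cofinite, a i ∈ int k (F i))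
      (hb : ∀ᶠ i in Filter.cofinite, b i ∈ int k (F i)) :
      ∀ᶠ i in Filter.cofinite, a i + b i ∈ int k (F i) := (ha.and hb).mono fun i h => add_mem h.1 h.2
  zero_mem' := show ∀ᶠ i in Filter.cofinite, (0 : LaurentSeries (F i)) ∈ int k (F i) from
    Filter.Eventually.of_forall fun i => zero_mem _
  smul_mem' c a (ha : ∀ᶠ i in Filter.cofinite, a i ∈ int k (F i)) :
      ∀ᶠ i in Filter.cofinite, c • a i ∈ int k (F i) := ha.mono fun i h => Submodule.smul_mem _ c h

theorem mem_RP {h : ∀ i, LaurentSeries (F i)} :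
    h ∈ RP k F ↔ ∀ᶠ i in Filter.cofinite, h i ∈ int k (F i) := Iff.rfl

theorem mul_mem_RP {f h : ∀ i, LaurentSeries (F i)} (hf : f ∈ RP k F) (hh : h ∈ RP k F) : f * h ∈ RP k F := by
  refine mem_RP.2 ((Filter.Eventually.and (mem_RP.1 hf) (mem_RP.1 hh)).mono fun i hi => ?_)
  rw [Pi.mul_apply, mem_int_iff, map_mul]
  exact mul_le_one' (mem_int_iff.1 hi.1) (mem_int_iff.1 hi.2)

variable (k F) in
/-- The integral part of the restricted product. -/
noncomputable def RPint : Submodule k (RP k F) :=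
  (Submodule.pi Set.univ fun i => int k (F i)).comap (RP k F).subtype

/-- Multiplication on the restricted product. -/
noncomputable def mulRP {f : ∀ i, LaurentSeries (F i)} (hf : f ∈ RP k F) : RP k F →ₗ[k] RP k F :=
  (mulPi k F f).restrict fun _ hh => mul_mem_RP hf hh

variable (k F) in
/-- Truncation on the restricted product. -/
noncomputable def truncRP : RP k F →ₗ[k] RP k F :=
  (truncPi k F).restrict fun h hh => mem_RP.2 (Filter.Eventually.of_forall fun i => isProj_trunc.map_mem (h i))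

variable [∀ i, FiniteDimensional k (F i)]

theorem sta_mulRP {f : ∀ i, LaurentSeries (F i)} (hf : f ∈ RP k F) : Sta (RPint k F) (mulRP hf) := by
  classical
  set S := (show {i | f i ∉ int k (F i)}.Finite from hf).toFinset
  let E : ∀ i, LaurentSeries (F i) →ₗ[k] RP k F := fun i =>
    (LinearMap.single k (fun i => LaurentSeries (F i)) i).codRestrict (RP k F) fun x =>
      mem_RP.2 (Filter.eventually_cofinite.2 ((Set.finite_singleton i).subset fun j hj => by
        by_contra hne
        exact hj (by simp [Pi.single_eq_of_ne (show j ≠ i from hne)])))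
  choose G hG hle using fun i => sta_mulL (k := k) (f i)
  refine ⟨⨆ i : S, (G i.1).map (E i.1), inferInstance, ?_⟩
  rintro _ ⟨a, ha, rfl⟩
  choose a' ha' g hg he using fun i => Submodule.mem_sup.1 (hle i ⟨a.1 i, ha i trivial, rfl⟩)
  let b : ∀ i, LaurentSeries (F i) := fun i => if i ∈ S then a' i else f i * a.1 i
  have hb : ∀ i, b i ∈ int k (F i) := fun i => by
    simp only [b]
    split
    · exact ha' i
    · rename_i hi
      rw [mem_int_iff, map_mul]
      have h1 : f i ∈ int k (F i) := by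
        by_contra h2
        exact hi ((show {i | f i ∉ int k (F i)}.Finite from hf).mem_toFinset.2 h2)
      exact mul_le_one' (mem_int_iff.1 h1) (mem_int_iff.1 (ha i trivial))
  have e : mulRP hf a = ⟨b, mem_RP.2 (Filter.Eventually.of_forall hb)⟩ + ∑ i : S, E i.1 (g i.1) := by
    refine Subtype.ext (funext fun j => ?_)
    rw [Submodule.coe_add, Submodule.coe_sum, Pi.add_apply, Finset.sum_apply]
    show f j * a.1 j = b j + ∑ i : S, (Pi.single i.1 (g i.1) : ∀ i, LaurentSeries (F i)) j
    by_cases hj : j ∈ S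
    · rw [Finset.sum_eq_single ⟨j, hj⟩ (fun i _ hi => Pi.single_eq_of_ne (fun h => hi (Subtype.ext h.symm)) _)
        (by simp), Pi.single_eq_same]
      simp only [b, if_pos hj]
      exact (he j).symm
    · rw [Finset.sum_eq_zero fun i _ => Pi.single_eq_of_ne (fun h : j = i.1 => hj (by rw [h]; exact i.2)) _, add_zero]
      simp only [b, if_neg hj]
  rw [e]
  exact Submodule.add_mem_sup (fun i _ => hb i) (Submodule.sum_mem _ fun i _ =>
    Submodule.mem_iSup_of_mem i ⟨_, hg i.1, rfl⟩)

/-- The sum of all residues vanishes when the global elements are nearly complementary to the integral ones. -/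
theorem sum_locRes_eq_zero [Nonempty ι]
    (hfin : ∀ f : K, {i | ¬ Valued.v (ψ i f) ≤ 1}.Finite)
    (h0 : FiniteDimensional k (A0 ψ))
    (G : Submodule k (RP k F)) [FiniteDimensional k G]
    (hG : ∀ h : RP k F, ∃ g ∈ G, ∃ y : K, ∀ i, Valued.v (h.1 i - g.1 i - ψ i y) ≤ 1)
    (f g : K) :
    (Function.support fun i => LocRes.locRes (ψ i) f g).Finite ∧ ∑ᶠ i, LocRes.locRes (ψ i) f g = 0 := by
  classical
  have hmem : ∀ a : K, J ψ a ∈ RP k F := fun a => by
    refine mem_RP.2 (Filter.eventually_cofinite.2 ((hfin a).subset fun i hi h1 => hi ?_))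
    exact mem_int_iff.2 h1
  set fv := J ψ f
  set gv := J ψ g
  set C := comm (truncRP k F) (mulRP (hmem f)) (mulRP (hmem g))
  have hproj : LinearMap.IsProj (RPint k F) (truncRP k F) :=
    ⟨fun h i _ => isProj_trunc.map_mem (h.1 i), fun h hh => Subtype.ext (isProj_truncPi.map_id _ hh)⟩
  have hcomm : mulRP (hmem f) ∘ₗ mulRP (hmem g) = mulRP (hmem g) ∘ₗ mulRP (hmem f) :=
    LinearMap.ext fun h => Subtype.ext (LinearMap.congr_fun (mulPi_comm fv gv) h.1)
  have hC : ∀ h i, (C h).1 i = opC k (fv i) (gv i) (h.1 i) := fun h i => rfl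
  -- vanishing
  let Jr : K →ₗ[k] RP k F := (J ψ).codRestrict _ hmem
  have hzero : tr C = 0 := by
    refine tr_comm_eq_zero hproj (sta_mulRP _) (sta_mulRP _) hcomm (LinearMap.range Jr) ?_ ?_ ?_ ?_
    · rintro _ ⟨y, rfl⟩
      exact ⟨f * y, Subtype.ext (funext fun i => map_mul (ψ i) f y)⟩
    · rintro _ ⟨y, rfl⟩
      exact ⟨g * y, Subtype.ext (funext fun i => map_mul (ψ i) g y)⟩
    · haveI := h0
      refine Submodule.finiteDimensional_of_le (S₂ := (A0 ψ).map Jr) ?_
      rintro _ ⟨hP, y, rfl⟩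
      exact ⟨y, hP, rfl⟩
    · refine Module.Finite.of_surjective ((RPint k F ⊔ LinearMap.range Jr).mkQ ∘ₗ G.subtype) fun q => ?_
      obtain ⟨h, rfl⟩ := Submodule.mkQ_surjective _ q
      obtain ⟨e, he, y, hy⟩ := hG h
      refine ⟨⟨e, he⟩, ?_⟩
      rw [LinearMap.comp_apply, Submodule.subtype_apply, eq_comm, Submodule.mkQ_apply, Submodule.mkQ_apply,
        Submodule.Quotient.eq, show h - e = (h - e - Jr y) + Jr y by abel]
      exact Submodule.add_mem_sup (fun i _ => mem_int_iff.2 (hy i)) ⟨y, rfl⟩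
  -- finitely many blocks
  set S := ((hfin f).union (hfin g)).toFinset
  have hout : ∀ i, i ∉ S → fv i ∈ int k (F i) ∧ gv i ∈ int k (F i) := fun i hi => by
    rw [Set.Finite.mem_toFinset, Set.mem_union, not_or] at hi
    exact ⟨mem_int_iff.2 (not_not.1 hi.1), mem_int_iff.2 (not_not.1 hi.2)⟩
  have hsupp : Function.support (fun i => LocRes.locRes (ψ i) f g) ⊆ S := fun i hi => by
    by_contra hiS
    obtain ⟨h1, h2⟩ := hout i hiS
    obtain ⟨a, ha⟩ := (LaurentSeries.val_le_one_iff_eq_coe (F i) (fv i)).1 (mem_int_iff.1 h1)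
    obtain ⟨b, hb⟩ := (LaurentSeries.val_le_one_iff_eq_coe (F i) (gv i)).1 (mem_int_iff.1 h2)
    refine hi ?_
    show Algebra.trace k (F i) ((fv i * LocRes.D (F i) (gv i)).coeff (-1)) = 0
    rw [← ha, ← hb, LocRes.D_coe, ← PowerSeries.coe_mul, PowerSeries.coeff_coe]
    simp
  refine ⟨S.finite_toSet.subset hsupp, ?_⟩
  rw [finsum_eq_sum_of_support_subset _ hsupp]
  let E : ∀ i, LaurentSeries (F i) →ₗ[k] RP k F := fun i =>
    (LinearMap.single k (fun i => LaurentSeries (F i)) i).codRestrict (RP k F) fun x =>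
      mem_RP.2 (Filter.eventually_cofinite.2 ((Set.finite_singleton i).subset fun j hj => by
        by_contra hne
        exact hj (by simp [Pi.single_eq_of_ne (show j ≠ i from hne)])))
  let pr : ∀ i, RP k F →ₗ[k] LaurentSeries (F i) := fun i => LinearMap.proj i ∘ₗ (RP k F).subtype
  let blk : ι → RP k F →ₗ[k] RP k F := fun i => (E i ∘ₗ opC k (fv i) (gv i)) ∘ₗ pr i
  have hblk : ∀ i, Sml (RPint k F) (blk i) := by
    intro i
    obtain ⟨H, hH, hr, hA⟩ := sml_opC (k := k) (fv i) (gv i)
    refine Sml.mk' (H.map (E i)) (H.map (E i)) (fun v => ?_) fun a ha => ⟨_, hA ⟨a.1 i, ha i trivial, rfl⟩, rfl⟩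
    obtain ⟨a, ha, h, hh, he⟩ := Submodule.mem_sup.1 (hr ⟨v.1 i, rfl⟩)
    show E i (opC k (fv i) (gv i) (v.1 i)) ∈ _
    rw [← he, map_add]
    refine Submodule.add_mem_sup (fun l _ => ?_) ⟨h, hh, rfl⟩
    show (Pi.single i a : ∀ i, LaurentSeries (F i)) l ∈ int k (F l)
    rcases eq_or_ne l i with rfl | hl
    · simpa using ha
    · simp [Pi.single_eq_of_ne hl]
  set rest := C - ∑ i ∈ S, blk i
  have hrest : ∀ h j, (rest h).1 j = if j ∈ S then 0 else opC k (fv j) (gv j) (h.1 j) := by
    intro h j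
    rw [LinearMap.sub_apply, LinearMap.sum_apply, Submodule.coe_sub, Submodule.coe_sum, Pi.sub_apply,
      Finset.sum_apply, hC]
    show opC k (fv j) (gv j) (h.1 j) -
      ∑ i ∈ S, (Pi.single i (opC k (fv i) (gv i) (h.1 i)) : ∀ i, LaurentSeries (F i)) j = _
    split
    · rename_i hj
      rw [Finset.sum_eq_single_of_mem j hj (fun i _ hi => Pi.single_eq_of_ne (Ne.symm hi) _), Pi.single_eq_same,
        sub_self]
    · rename_i hj
      rw [Finset.sum_eq_zero fun i hi => Pi.single_eq_of_ne (fun e : j = i => hj (e ▸ hi)) _, sub_zero]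
  have hrest2 : rest ^ 2 = 0 := by
    refine LinearMap.ext fun h => Subtype.ext (funext fun j => ?_)
    rw [pow_two, Module.End.mul_apply, hrest, hrest]
    simp only [LinearMap.zero_apply, ZeroMemClass.coe_zero, Pi.zero_apply]
    split
    · rfl
    · rename_i hj
      obtain ⟨h1, h2⟩ := hout j hj
      have hle : ∀ {x}, x ∈ int k (F j) → Valued.v x ≤ exp 0 := fun hx => by rw [exp_zero]; exact mem_int_iff.1 hx
      have hu : opC k (fv j) (gv j) (h.1 j) ∈ int k (F j) := by
        rw [opC_apply]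
        exact sub_mem (isProj_trunc.map_mem _)
          (mem_int_of_le (val_mul_le (hle h2) (hle (isProj_trunc.map_mem _)) le_rfl) (le_of_eq (add_zero 0)))
      rw [opC_apply (fv j) (gv j) (opC k (fv j) (gv j) (h.1 j)),
        isProj_trunc.map_id _ (mem_int_of_le (val_mul_le (c := 0) (hle h1) (val_mul_le (c := 0) (hle h2) (hle hu) le_rfl) le_rfl) le_rfl),
        isProj_trunc.map_id _ (mem_int_of_le (val_mul_le (c := 0) (hle h1) (hle hu) le_rfl) le_rfl), mul_left_comm,
        sub_self]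
  have hSC : Sml (RPint k F) C := sml_comm hproj (sta_mulRP _) (sta_mulRP _) hcomm
  have hsum : Sml (RPint k F) (∑ i ∈ S, blk i) := Sml.sum S fun i _ => hblk i
  have h1 : tr rest = tr C - tr (∑ i ∈ S, blk i) := hSC.tr_sub hsum
  rw [tr_eq_zero_of_pow 2 hrest2, hzero, zero_sub, zero_eq_neg, Sml.tr_sum S fun i _ => hblk i] at h1
  refine (Finset.sum_congr rfl fun i _ => ?_).trans h1
  obtain ⟨U, hU⟩ := (hblk i).exists_good
  let sg : LaurentSeries (F i) →ₗ[k] RP k F := E i ∘ₗ opC k (fv i) (gv i)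
  have hU' : Good (sg ∘ₗ pr i) U := hU
  have h2 : tr (sg ∘ₗ pr i) = tr (pr i ∘ₗ sg) :=
    @tr_comp_comm k (RP k F) (LaurentSeries (F i)) _ _ _ _ _ (pr i) sg U hU'
  have hcomp : pr i ∘ₗ sg = opC k (fv i) (gv i) := LinearMap.ext fun v => by
    show (Pi.single i (opC k (fv i) (gv i) v) : ∀ i, LaurentSeries (F i)) i = _
    rw [Pi.single_eq_same]
  have h3 : tr (sg ∘ₗ pr i) = Algebra.trace k (F i) ((fv i * LocRes.D (F i) (gv i)).coeff (-1)) := by
    rw [h2, hcomp]; exact tr_opC (k := k) (fv i) (gv i)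
  exact h3.symm

end restricted

end Groth.Agent.TateRes28
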