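import Groth.Agent.Lib.TateRes28.FinPot
import Mathlib.LinearAlgebra.Pi
import Mathlib.LinearAlgebra.Dimension.Finrank

/-! # Functoriality of the abstract residue -/

set_option autoImplicit false
set_option linter.style.haveILetI false

namespace Groth.Agent.TateRes28

variable {k V W : Type*} [Field k] [AddCommGroup V] [Module k V] [AddCommGroup W] [Module k W]

theorem tr_eq_trace [FiniteDimensional k V] (x : V →ₗ[k] V) : tr x = LinearMap.trace k V x := by
  have hg : Good x ⊤ := ⟨inferInstance, fun u _ => Submodule.mem_top, 0, fun v => Submodule.mem_top⟩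
  rw [tr_eq hg, ← LinearMap.trace_conj' x (Submodule.topEquiv (R := k) (M := V)).symm]
  exact congrArg _ (LinearMap.ext fun u => Subtype.ext rfl)

theorem good_of_range_le {x : V →ₗ[k] V} {U : Submodule k V} [FiniteDimensional k U] (h : ∀ v, x v ∈ U) : Good x U :=
  ⟨inferInstance, fun u _ => h u, 1, fun v => by rw [pow_one]; exact h v⟩

theorem tr_comm_transport {B : Submodule k W} (ι : V →ₗ[k] W) (hι : Function.Injective ι)
    {π f g : V →ₗ[k] V} {Pp F G : W →ₗ[k] W} (hπ : Pp ∘ₗ ι = ι ∘ₗ π) (hF : F ∘ₗ ι = ι ∘ₗ f)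
    (hG : G ∘ₗ ι = ι ∘ₗ g) (hS : Sml B (comm Pp F G)) (hr : ∀ w, comm Pp F G w ∈ LinearMap.range ι) :
    tr (comm Pp F G) = tr (comm π f g) := by
  have h1 := fun v => LinearMap.congr_fun hπ v
  have h2 := fun v => LinearMap.congr_fun hF v
  have h3 := fun v => LinearMap.congr_fun hG v
  simp only [LinearMap.comp_apply] at h1 h2 h3
  have hx : ∀ v, comm Pp F G (ι v) = ι (comm π f g v) := fun v => by
    rw [comm_apply, comm_apply, map_sub, h3, h2, h1, h2, h1, h3]
  let e := LinearEquiv.ofInjective ι hι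
  let b : W →ₗ[k] V := e.symm.toLinearMap ∘ₗ (comm Pp F G).codRestrict (LinearMap.range ι) hr
  have hb : ι ∘ₗ b = comm Pp F G := LinearMap.ext fun w =>
    congrArg Subtype.val (e.apply_symm_apply ⟨_, hr w⟩)
  have hb' : b ∘ₗ ι = comm π f g := LinearMap.ext fun v => hι (by
    rw [← hx v]; exact LinearMap.congr_fun hb (ι v))
  obtain ⟨U, hU⟩ := hS.exists_good
  rw [← hb] at hU
  rw [← hb, ← hb', tr_comp_comm b ι hU]

section pi

variable {ι : Type*} [Fintype ι] [DecidableEq ι]

/-- A matrix of endomorphisms acting on `V^ι`. -/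
noncomputable def matAct (M : ι → ι → V →ₗ[k] V) : (ι → V) →ₗ[k] (ι → V) :=
  LinearMap.pi fun i => ∑ j, M i j ∘ₗ LinearMap.proj j

/-- An endomorphism acting diagonally on `V^ι`. -/
def diagAct (g : V →ₗ[k] V) : (ι → V) →ₗ[k] (ι → V) :=
  LinearMap.pi fun i => g ∘ₗ LinearMap.proj i

theorem matAct_apply (M : ι → ι → V →ₗ[k] V) (v : ι → V) (i : ι) : matAct M v i = ∑ j, M i j (v j) := by
  simp [matAct]

omit [Fintype ι] [DecidableEq ι] in
theorem diagAct_apply (g : V →ₗ[k] V) (v : ι → V) (i : ι) : diagAct g v i = g (v i) := rfl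

omit [Fintype ι] [DecidableEq ι] in
theorem isProj_diag {A : Submodule k V} {π : V →ₗ[k] V} (hπ : LinearMap.IsProj A π) :
    LinearMap.IsProj (Submodule.pi Set.univ fun _ : ι => A) (diagAct π) :=
  ⟨fun v i _ => hπ.map_mem (v i), fun v hv => funext fun i => hπ.map_id _ (hv i trivial)⟩

theorem tr_comm_matAct {A : Submodule k V} {π g : V →ₗ[k] V} (M : ι → ι → V →ₗ[k] V)
    (hπ : LinearMap.IsProj A π) (hM : ∀ i j, Sta A (M i j)) (hg : Sta A g)
    (hfg : ∀ i j, M i j ∘ₗ g = g ∘ₗ M i j) :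
    Sml (Submodule.pi Set.univ fun _ : ι => A) (comm (diagAct π) (matAct M) (diagAct g)) ∧
    tr (comm (diagAct π) (matAct M) (diagAct g)) = ∑ i, tr (comm π (M i i) g) := by
  set P := Submodule.pi Set.univ fun _ : ι => A
  let blk : ι × ι → (ι → V) →ₗ[k] (ι → V) := fun p =>
    (LinearMap.single k (fun _ => V) p.1 ∘ₗ comm π (M p.1 p.2) g) ∘ₗ LinearMap.proj p.2
  have heq : comm (diagAct π) (matAct M) (diagAct g) = ∑ p, blk p := by
    refine LinearMap.ext fun v => funext fun i => ?_
    rw [comm_apply, Pi.sub_apply, diagAct_apply, diagAct_apply, diagAct_apply, matAct_apply, matAct_apply]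
    simp only [diagAct_apply, map_sum, ← Finset.sum_sub_distrib]
    rw [LinearMap.sum_apply, Finset.sum_apply, Fintype.sum_prod_type]
    symm
    refine (Finset.sum_eq_single i (fun b _ hb => ?_) (by simp)).trans ?_
    · exact Finset.sum_eq_zero fun j _ => by simp [blk, Pi.single_eq_of_ne (Ne.symm hb)]
    · exact Finset.sum_congr rfl fun j _ => by simp [blk, comm_apply]
  have hblk : ∀ p, Sml P (blk p) := by
    rintro ⟨i, j⟩
    obtain ⟨G, hG, hr, hA⟩ := sml_comm hπ (hM i j) hg (hfg i j)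
    refine Sml.mk' (G.map (LinearMap.single k (fun _ => V) i)) (G.map (LinearMap.single k (fun _ => V) i))
      (fun v => ?_) fun a ha => ⟨_, hA ⟨a j, ha j trivial, rfl⟩, rfl⟩
    obtain ⟨a, ha, h, hh, he⟩ := Submodule.mem_sup.1 (hr ⟨v j, rfl⟩)
    show LinearMap.single k (fun _ => V) i (comm π (M i j) g (v j)) ∈ _
    rw [← he, map_add]
    refine Submodule.add_mem_sup (fun l _ => ?_) ⟨h, hh, rfl⟩
    rcases eq_or_ne l i with rfl | hl
    · simpa using ha
    · simp [Pi.single_eq_of_ne hl]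
  refine ⟨heq ▸ Sml.sum _ fun p _ => hblk p, ?_⟩
  rw [heq, Sml.tr_sum _ fun p _ => hblk p, Fintype.sum_prod_type]
  refine Finset.sum_congr rfl fun i _ => ?_
  have key : ∀ j, tr (blk (i, j)) = tr (LinearMap.proj j ∘ₗ LinearMap.single k (fun _ => V) i ∘ₗ comm π (M i j) g) := by
    intro j
    obtain ⟨U, hU⟩ := (hblk (i, j)).exists_good
    exact tr_comp_comm (LinearMap.proj j) (LinearMap.single k (fun _ => V) i ∘ₗ comm π (M i j) g) hU
  rw [Finset.sum_eq_single i]
  · rw [key i, ← LinearMap.comp_assoc, show LinearMap.proj i ∘ₗ LinearMap.single k (fun _ => V) i = LinearMap.id from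
      LinearMap.ext fun v => by simp, LinearMap.id_comp]
  · intro j _ hj
    rw [key j, ← LinearMap.comp_assoc, show LinearMap.proj j ∘ₗ LinearMap.single k (fun _ => V) i = 0 from
      LinearMap.ext fun v => by simp [Pi.single_eq_of_ne hj], LinearMap.zero_comp, tr_zero]
  · simp

end pi

end Groth.Agent.TateRes28
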