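import Groth.Agent.Lib.TateRes28.Regular

/-! # All Weil differentials are residue forms -/

set_option autoImplicit false
set_option linter.style.haveILetI false

namespace Groth.Agent.TateRes28

open WithZero FunFld FunField GeomFF26
open scoped Multiplicative

universe u v w

variable {k : Type u} {K : Type v} [Field k] [Field K] [Algebra k K] (hK : IsFunctionField k K)
  (hg : IsGeometric k K) (F : Place k K → Type w) [∀ P, Field (F P)] [∀ P, Algebra k (F P)]
  [∀ P, FiniteDimensional k (F P)] (φ : ∀ P, K →ₐ[k] LaurentSeries (F P))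
  (hφ : ∀ P, LocRes.IsExpansionAt P.1 (φ P))

include hK hg hφ

theorem existsUnique_residue_form {v : K} (hv : KaehlerDifferential.D k K v ≠ 0)
    (ω : Module.Dual k (adele k K)) (hω : IsWeil ω) :
    ∃! u : K, ∀ a : adele k K,
      (Function.support fun P => LocRes.locRes (φ P) ((a : Place k K → K) P * u) v).Finite ∧
        ω a = ∑ᶠ P, LocRes.locRes (φ P) ((a : Place k K → K) P * u) v := by
  obtain ⟨ω₀, h0, hW, hne, -, -⟩ := residue_weil hK hg F φ hφ one_ne_zero hv
  have key : ∀ (u : K) (a : adele k K),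
      (Function.support fun P => LocRes.locRes (φ P) (a.1 P * u) v).Finite ∧
        mulWLin (ff hK) ω₀ u a = ∑ᶠ P, LocRes.locRes (φ P) (a.1 P * u) v := by
    intro u a
    have hmem := smul_mem_adele (ff hK) u a.1 a.2
    obtain ⟨h1, h2⟩ := h0 ⟨u • a.1, hmem⟩
    have e : (fun P => LocRes.locRes (φ P) ((u • a.1) P * 1) v) = fun P => LocRes.locRes (φ P) (a.1 P * u) v :=
      funext fun P => by rw [Pi.smul_apply, smul_eq_mul, mul_one, mul_comm]
    change Set.Finite (Function.support fun P => LocRes.locRes (φ P) ((u • a.1) P * 1) v) at h1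
    change ω₀ ⟨u • a.1, hmem⟩ = finsum fun P => LocRes.locRes (φ P) ((u • a.1) P * 1) v at h2
    rw [e] at h1 h2
    exact ⟨h1, h2⟩
  obtain ⟨u, hu⟩ := exists_mulW_eq hK hW hne hω
  refine ⟨u, fun a => ⟨(key u a).1, by rw [← hu]; exact (key u a).2⟩, fun u' hu' => ?_⟩
  apply mulWLin_injective (ff hK) hne
  rw [hu]
  exact LinearMap.ext fun a => ((key u' a).2.trans (hu' a).2.symm)

theorem finrank_differentials_ge {v : K} (hv : KaehlerDifferential.D k K v ≠ 0) (D : Divisor k K) :
    Module.finrank k (Submodule.span k {y : K | ∀ P, LocRes.vDiff (φ P) y v ≤ exp (-(D P))}) =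
      Module.finrank k (WD D) := by
  obtain ⟨C, hC, hval, -⟩ := exists_divisor hK hg F φ hφ hv
  rw [finrank_WD_eq_ell hK hC D, ell]
  have hset : {y : K | ∀ P, LocRes.vDiff (φ P) y v ≤ exp (-(D P))} = (FunFld.L (C - D) : Set K) := by
    ext y
    refine forall_congr' fun P => ?_
    rw [hval, Finsupp.sub_apply, exp_neg (C P), mul_inv_le_iff₀ exp_pos, ← exp_add, neg_add_eq_sub]
  rw [hset, Submodule.span_eq]

end Groth.Agent.TateRes28
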